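import Cfsg.Agent.H460.Typed
import Cfsg.Agent.FixBN.TwGood
import Cfsg.Agent.ChevalleyStructure.D4H1

/-!
# Typed root group data: the groups `²E₆(q)`, `³D₄(q)` (all characteristics)

* `FNode P U s Q` : the node `s` is a node over a field with `Q` elements; `FNode.lnode`;
* `fnode_of_sl` : from a homomorphism of `SL(2, F)` onto the rank one group;
* `HasFTyped` : as `HasTyped`, with all nodes over fields;
* `ftyped_fold`, `ftyped_2E6`, `ftyped_3D4`, `typed_2E6`, `typed_3D4`.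
-/

set_option autoImplicit false
set_option linter.unusedSectionVars false
set_option maxHeartbeats 400000

namespace Cfsg.Agent.H185.TypedTw

open CoxeterSystem Cfsg.Agent.ChevalleyStructure.CoxeterGeom Cfsg.Agent.Tits.Roots Cfsg.Agent.Tits.Core
  Cfsg.Agent.Tits.RootComb Cfsg.Agent.Nodes.Comb Cfsg.Agent.Nodes.Reps Cfsg.Agent.Nodes.BNOf Cfsg.Agent.Nodes.BNOf.RGD
  Cfsg.Agent.Schreier.BNSch Cfsg.Agent.FixBN Cfsg.Agent.FixBN.U3Model Cfsg.Agent.FixBN.UNode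
open Cfsg.Agent.H460.Typed
open Cfsg.Agent.FixBN.FieldRGD
open scoped MatrixGroups

/-- The node `s` is of type `L₂(Q)`. -/
def FNode {K : Type*} [Group K] (P : Cfsg.BNPair K) (U : Subgroup K) (s : K) (Q : ℕ) : Prop :=
  ∃ V : Subgroup K, Node P U s V ∧
    ∃ (F : Type) (_ : Field F) (_ : Finite F), Nat.card F = Q ∧ Nonempty (FieldNode P U s V F)

theorem FNode.lnode {K : Type*} [Group K] {P : Cfsg.BNPair K} {U : Subgroup K} {s : K} {Q : ℕ}
    (h : FNode P U s Q) : LNode P U s Q := by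
  obtain ⟨V, hV, h1⟩ := h
  exact ⟨V, hV, Or.inl h1⟩

/-- `HasTyped` with all nodes over fields. -/
def HasFTyped (p : ℕ) (K : Type*) [Group K] {l : ℕ} (M : CoxeterMatrix (Fin l)) (Q : Fin l → ℕ) : Prop :=
  ∃ (A : Fin l → Fin l → ℤ) (h : IsCartan M A) (T : Subgroup K) (n : Fin l → K)
    (X : (Fin l → ℤ) → Subgroup K) (_ : Finite M.Group) (R : RGD M.toCoxeterSystem h p T n X)
    (hgen : RGD.B M.toCoxeterSystem h T X ⊔ NN M.toCoxeterSystem R.nsys = ⊤), Group.IsSolvable T ∧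
      ∀ i, FNode (R.bnPair hgen) (RGD.Sup X (RGD.Pos M.toCoxeterSystem h)) (n i) (Q i)

theorem HasFTyped.typed {p : ℕ} {K : Type*} [Group K] {l : ℕ} {M : CoxeterMatrix (Fin l)} {Q : Fin l → ℕ}
    (H : HasFTyped p K M Q) : HasTyped p K M Q := by
  obtain ⟨A, h, T, n, X, hW, R, hgen, hT, hN⟩ := H
  exact ⟨A, h, T, n, X, hW, R, hgen, hT, fun i => (hN i).lnode⟩

section SL

variable {I W Y : Type*} [Fintype I] [DecidableEq I] [Group W] [Group Y] {M : CoxeterMatrix I}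
  {cs : CoxeterSystem M W} {A : I → I → ℤ} {h : IsCartan M A} {p : ℕ} {T : Subgroup Y} {n : I → Y}
  {X : (I → ℤ) → Subgroup Y} [Finite W]

/-- A homomorphism of `SL(2, F)` onto the rank one group of the node `i`. -/
theorem fnode_of_sl (R : RGD cs h p T n X) (hgen : RGD.B cs h T X ⊔ NN cs R.nsys = ⊤) {i : I}
    {F : Type} [Field F] [Finite F] (φ : SL(2, F) →* Y) {b : F} (hb : b ≠ 0)
    (hr : ∀ y, y ∈ X (sr i) ↔ ∃ a, φ (uu a) = y) (hi : ∀ a, φ (uu a) = 1 → a = 0)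
    (hd : ∀ c hc, φ (dd c hc) ∈ RGD.B cs h T X) (hw : φ (ww b hb) = n i) :
    FNode (R.bnPair hgen) (Sup X (Pos cs h)) (n i) (Nat.card F) := by
  refine ⟨_, NodeRGD.node R hgen i, F, inferInstance, inferInstance, rfl, ⟨?_⟩⟩
  refine fieldNode_of_rgd R hgen i (fun a => φ (uu (b * a))) (fun a c => ?_) (fun y => ?_) (fun a ha => ?_)
    (fun a ha => ?_)
  · rw [mul_add, uu_add, map_mul]
  · rw [hr]
    constructor
    · rintro ⟨a, rfl⟩
      exact ⟨b⁻¹ * a, by rw [mul_inv_cancel_left₀ hb]⟩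
    · rintro ⟨a, rfl⟩
      exact ⟨_, rfl⟩
  · exact (mul_eq_zero.1 (hi _ ha)).resolve_left hb
  · show (φ (uu (b * -a⁻¹)) * n i)⁻¹ * (n i * φ (uu (b * a)) * n i) ∈ _
    rw [← hw, ← map_mul, ← map_mul, ← map_mul, ← map_inv, ← map_mul, inv_key ha hb, map_mul]
    exact mul_mem (hd _ _) (U_le_B (mem_U ((hr _).2 ⟨_, rfl⟩)))

end SL

section Fold

open Cfsg.Lie Cfsg.Agent.ChevalleyStructure Cfsg.Agent.ChevalleyStructure.Elts
  Cfsg.Agent.Nodes.RGDChev Cfsg.Agent.Nodes.RGDFold Cfsg.Agent.Nodes.RGDFoldSL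

variable {D : ChevalleyDatum} {l : ℕ} {M' : CoxeterMatrix (Fin l)} {hp : IsType D l M'} {K : Type} [Field K]
  {m : ℕ} {M : CoxeterMatrix (Fin m)} {A : Fin m → Fin m → ℤ}
  {J : Fin m → List (Fin l)} {L : List (List ℕ)} {σ : GL D.Idx K →* GL D.Idx K} {ρ ρ' : ℕ → ℕ}
  {f : ℕ → K → K} {G : Subgroup (GL D.Idx K)}

/-- **Folded groups.** -/
theorem ftyped_fold [Finite K] (p : ℕ) [Fact p.Prime] [CharP K p] (h : IsCartan M A)
    (FD : FoldData D M A J L) (FG : FoldGrp hp K J L σ ρ ρ' f G) (r : Fin m → ℕ) (o : Fin m → List ℕ)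
    (N : ∀ i, NodeOK D J L ρ i (r i) (o i)) {φ : K →+* K} (hf : ∀ i, ∀ s ∈ r i :: o i, ∀ t, f s t = φ t) :
    HasFTyped p ↥G M (fun i => Nat.card (Fx φ ((o i).length + 1))) := by
  have hW : Finite M.Group := finite_W (hp := hp) M.toCoxeterSystem h FD
  have hR := Nodes.RGDFold.rgd M.toCoxeterSystem h FD FG p
  have hgen := Cfsg.Agent.Nodes.RGDLib.rgd_gen_of_G1 hR (Nodes.RGDFold.G1_eq_top M.toCoxeterSystem h FD FG p)
  refine ⟨A, h, _, _, _, hW, hR, hgen, Cfsg.Agent.FixBN.TwGood.isSolvable_T hp, fun i => ?_⟩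
  refine fnode_of_sl hR hgen (Phi FG (N i) (hf i)) (b := 1) one_ne_zero ?_ ?_ ?_ ?_
  · intro y
    rw [mem_X_iff FG (N i) (hf i)]
    exact ⟨fun ⟨a, e⟩ => ⟨a, e.symm⟩, fun ⟨a, e⟩ => ⟨a, e.symm⟩⟩
  · intro a ha
    refine Phi_up_injective FG (N i) (hf i) ?_
    show Phi FG (N i) (hf i) (SL2Hom.up a) = Phi FG (N i) (hf i) (SL2Hom.up 0)
    have h3 : (SL2Hom.up (0 : Fx φ ((o i).length + 1))) = 1 := by
      apply Subtype.ext
      show (!![1, 0; 0, 1] : Matrix (Fin 2) (Fin 2) _) = 1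
      exact Matrix.one_fin_two.symm
    rw [h3, map_one]
    exact ha
  · intro c hc
    refine T_le_B ?_
    have h3 : dd c hc = hS c := by
      apply Subtype.ext
      exact (coe_hS hc).symm
    rw [h3]
    exact Phi_hS FG (N i) (hf i) hc
  · have h3 : ww (1 : Fx φ ((o i).length + 1)) one_ne_zero = wS 1 := by
      apply Subtype.ext
      exact (coe_wS one_ne_zero).symm
    rw [h3]
    exact Phi_wS FG (N i) (hf i)

/-- the order of the fixed field of `φ` -/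
theorem card_Fx_one [Fintype K] {q k : ℕ} (hq : 1 < q) (hK : Fintype.card K = q ^ k) {φ : K →+* K}
    (hφ : ∀ x, φ x = x ^ q) : Nat.card (Fx φ 1) = q := by
  have h1 : Nat.card (Fx φ 1)ˣ = q - 1 := by
    rw [← Cfsg.Agent.ChevalleyStructure.D4H1.card_fixed hq hK hφ]
    have key : ∀ b : (Fx φ 1), φ (b : K) = b := fun b => by
      have := mem_Fx.1 b.2
      rwa [Function.iterate_one] at this
    refine Nat.card_congr
      { toFun := fun b => ⟨Units.map (Fx φ 1).subtype.toMonoidHom b, key b⟩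
        invFun := fun b => Units.mk0 ⟨(b.1 : K), mem_Fx.2 (by rw [Function.iterate_one]; exact b.2)⟩
          (fun h => b.1.ne_zero (congrArg Subtype.val h))
        left_inv := fun b => Units.ext rfl
        right_inv := fun b => Subtype.ext (Units.ext rfl) }
  rw [Nat.card_units] at h1
  have h2 : 0 < Nat.card (Fx φ 1) := Nat.card_pos
  omega

/-- the fixed field of a power of `φ` which is the identity -/
theorem card_Fx_top [Finite K] {φ : K →+* K} {k : ℕ} (h : ∀ x, φ^[k] x = x) : Nat.card (Fx φ k) = Nat.card K := by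
  have h1 : Fx φ k = ⊤ := by
    rw [eq_top_iff]
    intro a _
    exact mem_Fx.2 (h a)
  rw [h1]
  exact Nat.card_congr Subfield.topEquiv.toEquiv

end Fold

open Cfsg.Lie Cfsg.Agent.ChevalleyStructure
open Cfsg.Agent.Nodes.RGDFoldSL (Fx)

/-- **`³D₄(q)`.** -/
theorem ftyped_3D4 (K : Type) [Field K] [Finite K] {p : ℕ} [Fact p.Prime] [CharP K p] {q : ℕ} (hq : IsPrimePow q)
    (hK : Nat.card K = q ^ 3) : HasFTyped p ↥(twistedD4 K q) CoxeterMatrix.G₂ ![q, q ^ 3] := by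
  have := Fintype.ofFinite K
  rw [Nat.card_eq_fintype_card] at hK
  obtain ⟨φ, hφ⟩ := D4Fixed.exists_frob hq hK
  have h1 := ftyped_fold p Nodes.RGDTwD4.isCartan Nodes.RGDTwD4.foldData
    (Nodes.RGDTwD4.foldGrp hφ (D4Fixed.twisted_le_fix hK hφ)) _ _ Nodes.RGDTwNode.D4.nodeOK (φ := φ)
    fun i s hs t => by rw [Nodes.RGDTwNode.D4.eps_one i s hs, Int.cast_one, one_mul]
  have h2 : (fun i => Nat.card (Fx φ ((Nodes.RGDTwNode.D4.rest i).length + 1))) = ![q, q ^ 3] := by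
    funext i
    fin_cases i
    · exact card_Fx_one hq.one_lt hK hφ
    · show Nat.card (Fx φ 3) = q ^ 3
      rw [card_Fx_top, Nat.card_eq_fintype_card, hK]
      intro x
      show φ (φ (φ x)) = x
      rw [hφ, hφ, hφ, ← pow_mul, ← pow_mul]
      have h3 := FiniteField.pow_card x
      rw [hK] at h3
      have h4 : q * (q * q) = q ^ 3 := by ring
      rw [h4, h3]
  rw [← h2]
  exact h1

/-- **`²E₆(q)`.** -/
theorem ftyped_2E6 (K : Type) [Field K] [Finite K] {p : ℕ} [Fact p.Prime] [CharP K p] {q : ℕ} (hq : IsPrimePow q)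
    (hK : Nat.card K = q ^ 2) : HasFTyped p ↥(twistedE6 K q) CoxeterMatrix.F₄ ![q, q, q ^ 2, q ^ 2] := by
  have := Fintype.ofFinite K
  rw [Nat.card_eq_fintype_card] at hK
  obtain ⟨φ, hφ, hqq⟩ := TwE6Basic.exists_frob hq hK
  have h1 := ftyped_fold p Nodes.RGDTwE6.isCartan Nodes.RGDTwE6.foldData
    (Nodes.RGDTwE6.foldGrp hφ hqq) _ _ Nodes.RGDTwNode.E6.nodeOK (φ := φ)
    fun i s hs t => by rw [Nodes.RGDTwNode.E6.eps_one i s hs, Int.cast_one, one_mul]
  have h0 : Nat.card (Fx φ 2) = q ^ 2 := by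
    rw [card_Fx_top, Nat.card_eq_fintype_card, hK]
    intro x
    show φ (φ x) = x
    rw [hφ, hφ]
    exact hqq x
  have h2 : (fun i => Nat.card (Fx φ ((Nodes.RGDTwNode.E6.rest i).length + 1))) = ![q, q, q ^ 2, q ^ 2] := by
    funext i
    fin_cases i
    · exact card_Fx_one hq.one_lt hK hφ
    · exact card_Fx_one hq.one_lt hK hφ
    · exact h0
    · exact h0
  rw [← h2]
  exact h1

/-- **`²E₆(q)`**, all characteristics. -/
theorem typed_2E6 (K : Type) [Field K] [Finite K] {p : ℕ} [Fact p.Prime] [CharP K p] {q : ℕ} (hq : IsPrimePow q)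
    (hK : Nat.card K = q ^ 2) : ∃ Q : Fin 4 → ℕ, HasTyped p ↥(twistedE6 K q) CoxeterMatrix.F₄ Q ∧
      (∃ i, Q i = q) ∧ ∃ i, Q i = q ^ 2 :=
  ⟨_, (ftyped_2E6 K hq hK).typed, ⟨0, rfl⟩, ⟨2, rfl⟩⟩

/-- **`³D₄(q)`**, all characteristics. -/
theorem typed_3D4 (K : Type) [Field K] [Finite K] {p : ℕ} [Fact p.Prime] [CharP K p] {q : ℕ} (hq : IsPrimePow q)
    (hK : Nat.card K = q ^ 3) : ∃ Q : Fin 2 → ℕ, HasTyped p ↥(twistedD4 K q) CoxeterMatrix.G₂ Q ∧
      (∃ i, Q i = q) ∧ ∃ i, Q i = q ^ 3 :=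
  ⟨_, (ftyped_3D4 K hq hK).typed, ⟨0, rfl⟩, ⟨1, rfl⟩⟩

end Cfsg.Agent.H185.TypedTw
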