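import Mathlib
import Cfsg.Agent.H198.Carriers
import Cfsg.Agent.H202.Descent

/-!
# Centralizers of standard field automorphisms in images of groups of similarities (helper185)

`j : F₀ → F` an embedding of fields with image the fixed field of `σ`, `Q₀` a quadratic form over `F₀`, `Q` the
extended form over `F` (any index type, any characteristic).

* `quad_ext` : a quadratic form on `F^ι` is determined by its values on `eᵢ` and `eᵢ + eₖ`;
* `Ext j Q₀ Q` : `Q` extends `Q₀`; `mem_sim_iff : GL.map j g ∈ Sim Q ↔ g ∈ Sim Q₀`; `mapSim : Sim Q₀ →* Sim Q`;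
  `mu_mapSim`, `dt_mapSim`;
* `frobG` : the semisimilarity `v ↦ σ(v)`; `isFieldAut_iff : IsFieldAutPOmegaOf Q σ β ↔ β = Phi hG frobG`;
* `orderOf_Phi_frob` : the order of `Phi frobG` is the order of `σ`;
* `centIso` : `C ≤ Sim Q`, `C₀ ≤ Sim Q₀` corresponding subgroups, `C` containing the scalars:
  `(C.map S) ⊓ centralizer {Phi frobG} ≃* C₀.map S`.
-/

set_option autoImplicit false
set_option linter.unusedSectionVars false

namespace Cfsg.Agent.H185.OrthCent

open Matrix QuadraticMap Cfsg.Agent.LieClassical.OrthTrans Cfsg.Agent.ClassicalGeometry.OrthSemi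
  Cfsg.Agent.H198.OrthFrame Cfsg.Agent.H198.ClassesPlus Cfsg.Agent.H202.Descent

universe u v

variable {ι : Type} [Fintype ι] [DecidableEq ι] {F : Type u} [Field F] {F₀ : Type v} [Field F₀]

/-! ### Quadratic forms and the standard basis -/

theorem quad_ext {Q Q' : QuadraticForm F (ι → F)}
    (h1 : ∀ i, Q (Pi.single i 1) = Q' (Pi.single i 1))
    (h2 : ∀ i k, Q (Pi.single i 1 + Pi.single k 1) = Q' (Pi.single i 1 + Pi.single k 1)) :
    Q = Q' := by
  have hB : polarBilin Q = polarBilin Q' := by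
    apply LinearMap.ext_basis (Pi.basisFun F ι) (Pi.basisFun F ι)
    intro i k
    rw [Pi.basisFun_apply, Pi.basisFun_apply, polarBilin_apply_apply, polarBilin_apply_apply, polar,
      polar, h1, h1, h2]
  have hB' : ∀ u v, polar Q u v = polar Q' u v := fun u v => LinearMap.congr_fun₂ hB u v
  have h3 : ∀ (s : Finset ι) (v : ι → F), Q (∑ i ∈ s, v i • Pi.single i (1 : F)) =
      Q' (∑ i ∈ s, v i • Pi.single i (1 : F)) := by
    intro s v
    induction s using Finset.induction_on with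
    | empty => rw [Finset.sum_empty, QuadraticMap.map_zero, QuadraticMap.map_zero]
    | insert a s ha ih =>
      rw [Finset.sum_insert ha, QuadraticMap.map_add Q, QuadraticMap.map_add Q', ih, hB', QuadraticMap.map_smul,
        QuadraticMap.map_smul, h1]
  ext v
  have h4 : v = ∑ i, v i • Pi.single i (1 : F) := by
    funext k
    rw [Finset.sum_apply]
    simp [Pi.single_apply]
  rw [h4]
  exact h3 _ _

/-- The matrices over the small field, read over the large one. -/
def mp (j : F₀ →+* F) : GL ι F₀ →* GL ι F := Matrix.GeneralLinearGroup.map j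

theorem coe_mp (j : F₀ →+* F) (g : GL ι F₀) : (mp j g : Matrix ι ι F) = (g : Matrix ι ι F₀).map j := rfl

theorem mp_injective (j : F₀ →+* F) : Function.Injective (mp (ι := ι) j) := by
  intro g h H
  apply Units.ext
  exact Matrix.map_injective j.injective (congrArg Units.val H)

theorem mp_mulVec (j : F₀ →+* F) (g : GL ι F₀) (v : ι → F₀) :
    (mp j g : Matrix ι ι F) *ᵥ (fun i => j (v i)) = fun i => j (((g : Matrix ι ι F₀) *ᵥ v) i) := by
  funext i
  simp [coe_mp, Matrix.mulVec, dotProduct, map_sum]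

theorem single_map (j : F₀ →+* F) (i : ι) :
    (fun k => j ((Pi.single i 1 : ι → F₀) k)) = (Pi.single i 1 : ι → F) := by
  funext k
  by_cases hk : k = i
  · subst hk
    simp
  · simp [Pi.single_eq_of_ne hk]

theorem single_map_add (j : F₀ →+* F) (i k : ι) :
    (fun l => j ((Pi.single i 1 + Pi.single k 1 : ι → F₀) l)) =
      (Pi.single i 1 + Pi.single k 1 : ι → F) := by
  rw [← single_map j i, ← single_map j k]
  funext l
  simp

/-- `Q` is `Q₀` read over the larger field. -/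
structure Ext (j : F₀ →+* F) (Q₀ : QuadraticForm F₀ (ι → F₀)) (Q : QuadraticForm F (ι → F)) : Prop where
  app : ∀ v : ι → F₀, Q (fun i => j (v i)) = j (Q₀ v)

variable {j : F₀ →+* F} {Q₀ : QuadraticForm F₀ (ι → F₀)} {Q : QuadraticForm F (ι → F)}

theorem Ext.sim (h : Ext j Q₀ Q) {g : GL ι F₀} {c : F₀}
    (hg : ∀ v, Q₀ ((g : Matrix ι ι F₀) *ᵥ v) = c * Q₀ v) (v : ι → F) :
    Q ((mp j g : Matrix ι ι F) *ᵥ v) = j c * Q v := by
  have h1 : Q.comp (mp j g : Matrix ι ι F).mulVecLin = j c • Q := by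
    apply quad_ext
    · intro i
      rw [← single_map j i]
      change Q ((mp j g : Matrix ι ι F) *ᵥ _) = j c * Q _
      rw [mp_mulVec, h.app, h.app, hg, map_mul]
    · intro i k
      rw [← single_map_add j i k]
      change Q ((mp j g : Matrix ι ι F) *ᵥ _) = j c * Q _
      rw [mp_mulVec, h.app, h.app, hg, map_mul]
  exact DFunLike.congr_fun h1 v

theorem Ext.mem_sim_iff (h : Ext j Q₀ Q) (hne : ∃ v, Q₀ v ≠ 0) (g : GL ι F₀) :
    mp j g ∈ Sim Q ↔ g ∈ Sim Q₀ := by
  constructor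
  · rintro ⟨c, hc⟩
    obtain ⟨v, hv⟩ := hne
    have h1 : ∀ v, j (Q₀ ((g : Matrix ι ι F₀) *ᵥ v)) = c * j (Q₀ v) := fun v => by
      rw [← h.app, ← h.app, ← mp_mulVec]
      exact hc _
    have hjv : j (Q₀ v) ≠ 0 := by rwa [Ne, map_eq_zero]
    have h2 : (c : F) = j (Q₀ ((g : Matrix ι ι F₀) *ᵥ v) / Q₀ v) := by
      rw [map_div₀, h1 v, mul_div_cancel_right₀ _ hjv]
    have h3 : Q₀ ((g : Matrix ι ι F₀) *ᵥ v) / Q₀ v ≠ 0 := by
      intro h0
      rw [h0, map_zero] at h2
      exact c.ne_zero h2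
    refine ⟨Units.mk0 _ h3, fun w => ?_⟩
    apply j.injective
    rw [h1, h2, Units.val_mk0, map_mul]
  · rintro ⟨c, hc⟩
    exact ⟨Units.map (j : F₀ →* F) c, fun v => h.sim hc v⟩

/-- Similarities of the small form as similarities of the large one. -/
def mapSim (h : Ext j Q₀ Q) : Sim Q₀ →* Sim Q where
  toFun g := ⟨mp j g.1, by
    obtain ⟨c, hc⟩ := g.2
    exact ⟨Units.map (j : F₀ →* F) c, fun v => h.sim hc v⟩⟩
  map_one' := Subtype.ext (map_one _)
  map_mul' g k := Subtype.ext (map_mul _ _ _)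

theorem coe_mapSim (h : Ext j Q₀ Q) (g : Sim Q₀) : ((mapSim h g : Sim Q) : GL ι F) = mp j g.1 := rfl

theorem mapSim_injective (h : Ext j Q₀ Q) : Function.Injective (mapSim h) := by
  intro g k H
  exact Subtype.ext (mp_injective j (congrArg Subtype.val H))

theorem mu_mapSim (h : Ext j Q₀ Q) (hG₀ : Good Q₀) (hG : Good Q) (g : Sim Q₀) :
    mu hG (mapSim h g) = Units.map (j : F₀ →* F) (mu hG₀ g) :=
  mu_unique hG _ fun v => h.sim (mu_spec hG₀ g) v

theorem dt_mapSim (h : Ext j Q₀ Q) (g : Sim Q₀) :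
    dt (mapSim h g) = Units.map (j : F₀ →* F) (dt g) := by
  apply Units.ext
  rw [dt_apply, coe_mapSim, coe_mp]
  change _ = j (dt g : F₀)
  rw [dt_apply, RingHom.map_det]
  rfl

/-! ### The field automorphism -/

/-- `σ` fixes the form: `Q(σ v) = σ(Q v)`. -/
def Fix (σ : F ≃+* F) (Q : QuadraticForm F (ι → F)) : Prop := ∀ v : ι → F, Q (fun i => σ (v i)) = σ (Q v)

theorem pair_one {σ : F ≃+* F} (h : Fix σ Q) : IsSemisimilarityPair (⇑Q) (1 : GL ι F) σ :=
  ⟨1, fun v => by rw [Units.val_one, one_mulVec, Units.val_one, one_mul]; exact h v⟩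

/-- `v ↦ σ(v)`. -/
def frobG {σ : F ≃+* F} (h : Fix σ Q) : Gam Q := ⟨perm 1 σ, perm_mem_Gam (pair_one h)⟩

theorem frobG_apply {σ : F ≃+* F} (h : Fix σ Q) (v : ι → F) : (frobG h).1 v = fun i => σ (v i) := by
  change perm 1 σ v = _
  rw [perm_apply, Units.val_one, one_mulVec]

theorem isFieldAut_iff (hG : Good Q) {σ : F ≃+* F} (h : Fix σ Q) (β : MulAut (POmega F ⇑Q)) :
    IsFieldAutPOmegaOf (⇑Q) σ β ↔ β = Phi hG (frobG h) := by
  rw [← show IsInducedBySemilinearPOmega (⇑Q) 1 σ β ↔ β = Phi hG (frobG h) from induced_iff hG (pair_one h) β]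
  constructor
  · intro hβ s s' hs
    apply hβ s s'
    rw [hs, Units.val_one, one_mul, inv_one, Units.val_one, mul_one]
  · intro hβ s s' hs
    apply hβ s s'
    rw [hs, Units.val_one, one_mul, inv_one, Units.val_one, mul_one]

theorem frobG_pow_apply {σ : F ≃+* F} (h : Fix σ Q) (k : ℕ) (v : ι → F) :
    (frobG h ^ k).1 v = fun i => (σ ^ k) (v i) := by
  induction k generalizing v with
  | zero => rfl
  | succ k ih =>
    rw [pow_succ]
    change (frobG h ^ k).1 ((frobG h).1 v) = _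
    rw [ih, frobG_apply]
    funext i
    rw [pow_succ]
    rfl

theorem Phi_frob_pow_eq_one (hG : Good Q) [Nonempty ι] {σ : F ≃+* F} (h : Fix σ Q) (k : ℕ) :
    Phi hG (frobG h) ^ k = 1 ↔ σ ^ k = 1 := by
  rw [← map_pow, Phi_eq_one_iff]
  constructor
  · rintro ⟨a, ha, hv⟩
    obtain ⟨i⟩ := ‹Nonempty ι›
    have h1 : a = 1 := by
      have h2 := congrFun (hv (Pi.single i 1)) i
      rw [frobG_pow_apply] at h2
      simp only [Pi.single_eq_same, map_one, Pi.smul_apply, smul_eq_mul, mul_one] at h2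
      exact h2.symm
    ext b
    have h2 := congrFun (hv (Pi.single i b)) i
    rw [frobG_pow_apply] at h2
    simp only [Pi.single_eq_same, Pi.smul_apply, smul_eq_mul, h1, one_mul] at h2
    exact h2
  · intro hk
    refine ⟨1, one_ne_zero, fun v => ?_⟩
    rw [frobG_pow_apply, hk, one_smul]
    rfl

theorem orderOf_Phi_frob (hG : Good Q) [Nonempty ι] {σ : F ≃+* F} (h : Fix σ Q) :
    orderOf (Phi hG (frobG h)) = orderOf σ := by
  apply Nat.dvd_antisymm
  · exact orderOf_dvd_of_pow_eq_one ((Phi_frob_pow_eq_one hG h _).2 (pow_orderOf_eq_one σ))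
  · exact orderOf_dvd_of_pow_eq_one ((Phi_frob_pow_eq_one hG h _).1 (pow_orderOf_eq_one _))

/-! ### The centralizer -/

/-- The scalar similarity. -/
def scSim (Q : QuadraticForm F (ι → F)) (e : Fˣ) : Sim Q :=
  ⟨scg e, e * e, fun v => by
    rw [coe_scg, Matrix.smul_mulVec, Matrix.one_mulVec, QuadraticMap.map_smul, Units.val_mul]
    rfl⟩

theorem coe_scSim (e : Fˣ) : ((scSim Q e : Sim Q) : GL ι F) = scg e := rfl

theorem S_scSim (hG : Good Q) (e : Fˣ) : S hG (scSim Q e) = 1 :=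
  (S_eq_one_iff hG _).2 ⟨e, rfl⟩

theorem S_eq_iff (hG : Good Q) (g h : Sim Q) : S hG g = S hG h ↔ ∃ e : Fˣ, g = scSim Q e * h := by
  constructor
  · intro H
    have h1 : S hG (g * h⁻¹) = 1 := by rw [map_mul, map_inv, H, mul_inv_cancel]
    obtain ⟨e, he⟩ := (S_eq_one_iff hG _).1 h1
    refine ⟨e, ?_⟩
    have h2 : g * h⁻¹ = scSim Q e := Subtype.ext (Units.ext he)
    rw [← h2, inv_mul_cancel_right]
  · rintro ⟨e, rfl⟩
    rw [map_mul, S_scSim, one_mul]

/-- A similarity centralizes the field automorphism iff it is a multiple of one over the fixed field. -/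
theorem comm_iff (h : Ext j Q₀ Q) (hG : Good Q) [Nonempty ι] {σ : F ≃+* F} (hσ : Fix σ Q)
    (hj : ∀ a, σ a = a ↔ ∃ b, j b = a) (hne : ∃ v, Q₀ v ≠ 0) (g : Sim Q) :
    S hG g ∈ Subgroup.centralizer {Phi hG (frobG hσ)} ↔ ∃ (e : Fˣ) (g₀ : Sim Q₀), g = scSim Q e * mapSim h g₀ := by
  rw [Subgroup.mem_centralizer_singleton_iff]
  change Phi hG (simGam Q g) * Phi hG (frobG hσ) = Phi hG (frobG hσ) * Phi hG (simGam Q g) ↔ _
  have hconj : ∀ v : ι → F, (frobG hσ).1 ((simGam Q g).1 v) =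
      ((gm σ (g : GL ι F) : GL ι F) : Matrix ι ι F) *ᵥ (frobG hσ).1 v := by
    intro v
    rw [frobG_apply, frobG_apply, simGam_apply, coe_gm]
    exact map_mulVec σ ((g : GL ι F) : Matrix ι ι F) v
  constructor
  · intro hc
    have h1 : Phi hG (simGam Q g * frobG hσ * (simGam Q g)⁻¹ * (frobG hσ)⁻¹) = 1 := by
      rw [map_mul, map_mul, map_mul, map_inv, map_inv, hc, mul_inv_cancel_right, mul_inv_cancel]
    obtain ⟨a, ha0, ha⟩ := (Phi_eq_one_iff hG _).1 h1
    have h2 : simGam Q g * frobG hσ = (simGam Q g * frobG hσ * (simGam Q g)⁻¹ * (frobG hσ)⁻¹) *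
        (frobG hσ * simGam Q g) := by group
    have h3 : ∀ v, ((g : GL ι F) : Matrix ι ι F) *ᵥ (frobG hσ).1 v =
        a • (((gm σ (g : GL ι F) : GL ι F) : Matrix ι ι F) *ᵥ (frobG hσ).1 v) := by
      intro v
      have h4 := congrArg (fun k : Gam Q => k.1 v) h2
      change ((g : GL ι F) : Matrix ι ι F) *ᵥ (frobG hσ).1 v =
        (simGam Q g * frobG hσ * (simGam Q g)⁻¹ * (frobG hσ)⁻¹).1 ((frobG hσ).1 ((simGam Q g).1 v)) at h4
      rw [ha, hconj] at h4
      exact h4
    have h4 : ((g : GL ι F) : Matrix ι ι F) = a • ((g : GL ι F) : Matrix ι ι F).map σ := by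
      rw [← Matrix.mulVec_injective.eq_iff]
      funext v
      obtain ⟨w, rfl⟩ := (frobG hσ).1.surjective v
      rw [h3, Matrix.smul_mulVec]
      rfl
    have h5 : ((g : GL ι F) : Matrix ι ι F).map σ = a⁻¹ • ((g : GL ι F) : Matrix ι ι F) := by
      rw [eq_inv_smul_iff₀ ha0]
      exact h4.symm
    obtain ⟨e, he⟩ := exists_fixed_multiple h5
    obtain ⟨M, hM⟩ := exists_descend_gl hj he
    have hMs : mp j M ∈ Sim Q := by
      rw [show mp j M = scg e * (g : GL ι F) from hM]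
      exact mul_mem (scSim Q e).2 g.2
    rw [h.mem_sim_iff hne] at hMs
    refine ⟨e⁻¹, ⟨M, hMs⟩, ?_⟩
    apply Subtype.ext
    change (g : GL ι F) = scg e⁻¹ * mp j M
    rw [show mp j M = scg e * (g : GL ι F) from hM, ← mul_assoc]
    apply Units.ext
    rw [Units.val_mul, Units.val_mul, coe_scg, coe_scg, smul_mul_smul_comm, ← Units.val_mul, inv_mul_cancel,
      Units.val_one, one_smul, one_mul, one_mul]
  · rintro ⟨e, g₀, rfl⟩
    have h1 : Phi hG (simGam Q (scSim Q e * mapSim h g₀)) = Phi hG (simGam Q (mapSim h g₀)) := by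
      change S hG (scSim Q e * mapSim h g₀) = S hG (mapSim h g₀)
      rw [map_mul, S_scSim, one_mul]
    rw [h1, ← map_mul, ← map_mul]
    congr 1
    apply Subtype.ext
    ext1 v
    change (simGam Q (mapSim h g₀)).1 ((frobG hσ).1 v) = (frobG hσ).1 ((simGam Q (mapSim h g₀)).1 v)
    rw [frobG_apply, frobG_apply, simGam_apply, simGam_apply, coe_mapSim]
    rw [show (fun i => σ (((mp j g₀.1 : Matrix ι ι F) *ᵥ v) i)) = _ from map_mulVec σ (mp j g₀.1 : Matrix ι ι F) v]
    congr 1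
    ext i k
    rw [coe_mp, Matrix.map_apply, Matrix.map_apply]
    exact ((hj _).2 ⟨_, rfl⟩).symm

/-- **The centralizer of the standard field automorphism.** -/
theorem centIso (h : Ext j Q₀ Q) (hG₀ : Good Q₀) (hG : Good Q) [Nonempty ι] {σ : F ≃+* F} (hσ : Fix σ Q)
    (hj : ∀ a, σ a = a ↔ ∃ b, j b = a) (C₀ : Subgroup (Sim Q₀)) (C : Subgroup (Sim Q))
    (hC : ∀ g₀, mapSim h g₀ ∈ C ↔ g₀ ∈ C₀) (hsc : ∀ e, scSim Q e ∈ C) :
    Nonempty (↥(C.map (S hG) ⊓ Subgroup.centralizer {Phi hG (frobG hσ)}) ≃* ↥(C₀.map (S hG₀))) := by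
  have hne := exists_ne_zero_of_good hG₀
  let Th : C₀ →* MulAut (POmega F ⇑Q) := ((S hG).comp (mapSim h)).comp C₀.subtype
  let Th₀ : C₀ →* MulAut (POmega F₀ ⇑Q₀) := (S hG₀).comp C₀.subtype
  have hr : Th.range = C.map (S hG) ⊓ Subgroup.centralizer {Phi hG (frobG hσ)} := by
    ext β
    rw [MonoidHom.mem_range, Subgroup.mem_inf]
    constructor
    · rintro ⟨g, rfl⟩
      refine ⟨⟨mapSim h g.1, (hC _).2 g.2, rfl⟩, (comm_iff h hG hσ hj hne _).2 ⟨1, g.1, ?_⟩⟩
      have h1 : scSim Q 1 = 1 := by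
        apply Subtype.ext
        apply Units.ext
        rw [coe_scSim, coe_scg, Units.val_one, one_smul]
        rfl
      rw [h1, one_mul]
      rfl
    · rintro ⟨⟨g, hg, rfl⟩, hc⟩
      obtain ⟨e, g₀, rfl⟩ := (comm_iff h hG hσ hj hne g).1 hc
      have h1 : mapSim h g₀ ∈ C := by
        have h2 := mul_mem (inv_mem (hsc e)) hg
        rwa [inv_mul_cancel_left] at h2
      refine ⟨⟨g₀, (hC _).1 h1⟩, ?_⟩
      change S hG (mapSim h g₀) = _
      rw [map_mul, S_scSim, one_mul]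
  have hr₀ : Th₀.range = C₀.map (S hG₀) := by
    rw [MonoidHom.range_comp, Subgroup.range_subtype]
  have hk : Th.ker = Th₀.ker := by
    ext g
    rw [MonoidHom.mem_ker, MonoidHom.mem_ker]
    change S hG (mapSim h g.1) = 1 ↔ S hG₀ g.1 = 1
    rw [S_eq_one_iff, S_eq_one_iff, coe_mapSim, coe_mp]
    constructor
    · rintro ⟨a, ha⟩
      obtain ⟨i⟩ := ‹Nonempty ι›
      have h1 := fun i k => congrFun (congrFun ha i) k
      simp only [Matrix.map_apply, Matrix.smul_apply, smul_eq_mul] at h1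
      have ha0 : j ((((g.1 : Sim Q₀) : GL ι F₀) : Matrix ι ι F₀) i i) = a := by
        rw [h1, Matrix.one_apply_eq, mul_one]
      have hne' : (((g.1 : Sim Q₀) : GL ι F₀) : Matrix ι ι F₀) i i ≠ 0 := by
        intro h2
        rw [h2, map_zero] at ha0
        exact a.ne_zero ha0.symm
      refine ⟨Units.mk0 _ hne', ?_⟩
      ext k l
      apply j.injective
      rw [h1, Matrix.smul_apply, smul_eq_mul, map_mul, Units.val_mk0, ha0]
      congr 1
      rw [Matrix.one_apply, Matrix.one_apply]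
      split_ifs
      · exact (map_one j).symm
      · exact (map_zero j).symm
    · rintro ⟨c, hc⟩
      refine ⟨Units.map (j : F₀ →* F) c, ?_⟩
      rw [hc]
      ext i k
      rw [Matrix.map_apply, Matrix.smul_apply, Matrix.smul_apply, smul_eq_mul, smul_eq_mul, map_mul, Matrix.one_apply,
        Matrix.one_apply]
      split_ifs
      · rw [map_one]; rfl
      · rw [map_zero, mul_zero, mul_zero]
  rw [← hr, ← hr₀]
  exact ⟨((QuotientGroup.quotientKerEquivRange Th).symm.trans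
    (QuotientGroup.quotientMulEquivOfEq hk)).trans (QuotientGroup.quotientKerEquivRange Th₀)⟩

end Cfsg.Agent.H185.OrthCent
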