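import Mathlib
import Cfsg.Agent.H185.ExtKappa
import Cfsg.Agent.H198.ClassesMinus
import Cfsg.Agent.H198.SplitCount
import Cfsg.Agent.ClassicalGeometry.OmegaIndex
import Cfsg.Agent.ClassicalGeometry.OrthDickson

/-!
# One class: the split count of a field automorphism of odd order (helper185)

* `isq Q : isometryGroup →* Sim Q`; `rf Q v hv` : the reflection as a similarity; `mapSim_rf`; `simO_refl`;
* `isSquare_map_iff` : `[F : F₀]` odd: `j b` is a square iff `b` is;
* `omega_of_two` : characteristic two: an isometry in the kernel of a sign homomorphism `χ` with `χ(reflection) = -1`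
  is in `Ω`;
* `cover_odd`, `cover_two` : `C.map S = Inn ⊔ (C.map S ⊓ centralizer)`; `split_one`.
-/

set_option autoImplicit false
set_option linter.unusedSectionVars false

namespace Cfsg.Agent.H185.SplitOne

open Matrix QuadraticMap Cfsg.Agent.LieClassical.OrthCore Cfsg.Agent.LieClassical.OrthTrans
  Cfsg.Agent.ClassicalGeometry.OrthSemi Cfsg.Agent.ClassicalGeometry.Reflection
  Cfsg.Agent.H198.OrthFrame Cfsg.Agent.H198.ClassesPlus Cfsg.Agent.H198.ExtForm Cfsg.Agent.H185.OrthCent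
  Cfsg.Agent.H185.ExtKappa

universe u v

variable {ι : Type} [Fintype ι] [DecidableEq ι] {F : Type u} [Field F] {F₀ : Type v} [Field F₀]
  {j : F₀ →+* F} {Q₀ : QuadraticForm F₀ (ι → F₀)} {Q : QuadraticForm F (ι → F)}

/-- An isometry as a similarity. -/
def isq (Q : QuadraticForm F (ι → F)) : isometryGroup F ⇑Q →* Sim Q :=
  Subgroup.inclusion (iso_le_sim Q)

theorem coe_isq (x : isometryGroup F ⇑Q) : ((isq Q x : Sim Q) : GL ι F) = x := rfl

/-- A reflection as a similarity. -/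
def rf (Q : QuadraticForm F (ι → F)) (v : ι → F) (hv : Q v ≠ 0) : Sim Q := isq Q (reflIso Q v hv)

theorem rf_mulVec (v : ι → F) (hv : Q v ≠ 0) (x : ι → F) :
    ((rf Q v hv : GL ι F) : Matrix ι ι F) *ᵥ x = x - ((Q v)⁻¹ * polar (⇑Q) v x) • v := by
  change ((reflIso Q v hv : GL ι F) : Matrix ι ι F) *ᵥ x = _
  rw [coe_reflIso, reflectionMatrix_mulVec]

theorem sim_ext {g h : Sim Q}
    (H : ∀ x : ι → F, ((g : GL ι F) : Matrix ι ι F) *ᵥ x = ((h : GL ι F) : Matrix ι ι F) *ᵥ x) : g = h := by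
  apply Subtype.ext
  apply Units.ext
  rw [← Matrix.mulVec_injective.eq_iff]
  funext x
  exact H x

theorem simO_refl (v : ι → F) (hv : Q v ≠ 0) : simO Q ⟨refl Q v hv, refl_mem_O hv⟩ = rf Q v hv := by
  apply sim_ext
  intro x
  rw [simO_mulVec, rf_mulVec]
  exact refl_apply hv x

theorem jv_ne (hx : Ext j Q₀ Q) {v : ι → F₀} (hv : Q₀ v ≠ 0) : Q (jv j v) ≠ 0 := by
  rw [show Q (jv j v) = j (Q₀ v) from hx.app v]
  exact (map_ne_zero j).2 hv

/-- A matrix is determined by its action on the rational vectors. -/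
theorem sim_ext_jv {g h : Sim Q}
    (H : ∀ x : ι → F₀, ((g : GL ι F) : Matrix ι ι F) *ᵥ jv j x = ((h : GL ι F) : Matrix ι ι F) *ᵥ jv j x) :
    g = h := by
  apply Subtype.ext
  apply Units.ext
  ext i k
  have h1 := congrFun (H (Pi.single k 1)) i
  rw [show jv j (Pi.single k 1) = (Pi.single k 1 : ι → F) from single_map j k, Matrix.mulVec_single_one,
    Matrix.mulVec_single_one] at h1
  exact h1

theorem mapSim_rf (hx : Ext j Q₀ Q) (v : ι → F₀) (hv : Q₀ v ≠ 0) :
    mapSim hx (rf Q₀ v hv) = rf Q (jv j v) (jv_ne hx hv) := by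
  apply sim_ext_jv (j := j)
  intro x
  rw [rf_mulVec]
  have h1 : ((mapSim hx (rf Q₀ v hv) : GL ι F) : Matrix ι ι F) *ᵥ jv j x =
      jv j (((rf Q₀ v hv : GL ι F₀) : Matrix ι ι F₀) *ᵥ x) := mp_mulVec j _ x
  rw [h1, rf_mulVec, polar_jv hx, show Q (jv j v) = j (Q₀ v) from hx.app v, sub_eq_add_neg, jv_add, ← neg_smul,
    jv_smul, map_neg, neg_smul, map_mul, map_inv₀, sub_eq_add_neg]

/-! ### Square classes -/

theorem isSquare_map_iff [Finite F] [Finite F₀] (j : F₀ →+* F) {r : ℕ} (hr : Odd r)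
    (hc : Nat.card F = Nat.card F₀ ^ r) (b : F₀) : IsSquare (j b) ↔ IsSquare b := by
  classical
  have := Fintype.ofFinite F
  have := Fintype.ofFinite F₀
  rw [Nat.card_eq_fintype_card, Nat.card_eq_fintype_card] at hc
  constructor
  swap
  · rintro ⟨s, rfl⟩
    exact ⟨j s, map_mul _ _ _⟩
  intro h
  by_cases hb : b = 0
  · subst hb; exact ⟨0, by simp⟩
  by_cases h2 : (2 : F₀) = 0
  · have h6 : CharP F₀ 2 := CharTwo.of_one_ne_zero_of_two_eq_zero one_ne_zero h2
    exact FiniteField.isSquare_of_char_two (ringChar.eq F₀ 2) b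
  have hch₀ : ringChar F₀ ≠ 2 := by
    intro h
    exact h2 (by have := ringChar.Nat.cast_ringChar (R := F₀); rw [h] at this; exact_mod_cast this)
  have h2' : (2 : F) ≠ 0 := by
    intro h3
    apply h2
    apply j.injective
    rw [map_ofNat, map_zero, h3]
  have hch : ringChar F ≠ 2 := by
    intro h
    exact h2' (by have := ringChar.Nat.cast_ringChar (R := F); rw [h] at this; exact_mod_cast this)
  have hjb : j b ≠ 0 := (map_ne_zero j).2 hb
  rw [FiniteField.isSquare_iff hch hjb] at h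
  rw [FiniteField.isSquare_iff hch₀ hb]
  have hq : Odd (Fintype.card F₀) := by
    rcases Nat.even_or_odd (Fintype.card F₀) with he | ho
    · exact absurd (FiniteField.even_card_iff_char_two.2 (Nat.even_iff.1 he)) hch₀
    · exact ho
  obtain ⟨k, hk⟩ := hq
  -- `(q₀ ^ r) / 2 = (q₀ / 2) * (odd)`
  have hgeom : ∃ t, Odd t ∧ Fintype.card F / 2 = Fintype.card F₀ / 2 * t := by
    refine ⟨∑ i ∈ Finset.range r, Fintype.card F₀ ^ i, ?_, ?_⟩
    · rw [Finset.odd_sum_iff_odd_card_odd]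
      have h5 : (Finset.range r).filter (fun i => Odd (Fintype.card F₀ ^ i)) = Finset.range r := by
        rw [Finset.filter_eq_self]
        intro i _
        exact Odd.pow ⟨k, hk⟩
      rw [h5, Finset.card_range]
      exact hr
    · have h3 := Nat.geomSum_eq (m := Fintype.card F₀) (by rw [hk]; have := Fintype.one_lt_card (α := F₀); omega) r
      have h4 : (∑ i ∈ Finset.range r, Fintype.card F₀ ^ i) * (Fintype.card F₀ - 1) = Fintype.card F₀ ^ r - 1 := by
        rw [h3]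
        exact Nat.div_mul_cancel (by simpa using Nat.sub_dvd_pow_sub_pow (Fintype.card F₀) 1 r)
      have h5 : Odd (Fintype.card F₀ ^ r) := Odd.pow ⟨k, hk⟩
      obtain ⟨l, hl⟩ := h5
      rw [hc, hl]
      rw [hl, hk] at h4
      have e1 : (2 * l + 1) / 2 = l := by omega
      have e2 : (Fintype.card F₀) / 2 = k := by rw [hk]; omega
      rw [e1, e2, hk]
      have e3 : 2 * k + 1 - 1 = 2 * k := by omega
      have e4 : 2 * l + 1 - 1 = 2 * l := by omega
      rw [e3, e4] at h4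
      nlinarith [h4]
  obtain ⟨t, ht, hdiv⟩ := hgeom
  have h7 : b ^ (Fintype.card F₀ / 2) = 1 ∨ b ^ (Fintype.card F₀ / 2) = -1 := FiniteField.pow_dichotomy hch₀ hb
  rcases h7 with h7 | h7
  · exact h7
  · exfalso
    rw [hdiv, pow_mul, ← map_pow, h7, map_neg, map_one, ht.neg_one_pow] at h
    apply h2'
    rw [show (2 : F) = 1 - (-1) by ring, h, sub_self]

/-- Odd degree: every element of `F` is a square times an element of `F₀`. -/
theorem exists_sq_mul [Finite F] [Finite F₀] (j : F₀ →+* F) {r : ℕ} (hr : Odd r)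
    (hc : Nat.card F = Nat.card F₀ ^ r) (a : Fˣ) :
    ∃ (b : F₀ˣ) (s : Fˣ), a = s * s * Units.map (j : F₀ →* F) b := by
  classical
  have := Fintype.ofFinite F
  have := Fintype.ofFinite F₀
  by_cases ha : IsSquare (a : F)
  · obtain ⟨s, hs⟩ := ha
    have hs0 : s ≠ 0 := by
      rintro rfl
      rw [mul_zero] at hs
      exact a.ne_zero hs
    exact ⟨1, Units.mk0 s hs0, by rw [map_one, mul_one]; exact Units.ext hs⟩
  · have h2 : (2 : F) ≠ 0 := by
      intro h2
      have h6 : CharP F 2 := CharTwo.of_one_ne_zero_of_two_eq_zero one_ne_zero h2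
      exact ha (FiniteField.isSquare_of_char_two (ringChar.eq F 2) _)
    have h2' : (2 : F₀) ≠ 0 := by
      intro h3
      apply h2
      rw [← map_ofNat j, h3, map_zero]
    have hch₀ : ringChar F₀ ≠ 2 := by
      intro h
      exact h2' (by have := ringChar.Nat.cast_ringChar (R := F₀); rw [h] at this; exact_mod_cast this)
    have hch : ringChar F ≠ 2 := by
      intro h
      exact h2 (by have := ringChar.Nat.cast_ringChar (R := F); rw [h] at this; exact_mod_cast this)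
    obtain ⟨b, hb⟩ := FiniteField.exists_nonsquare hch₀
    have hb0 : b ≠ 0 := by
      rintro rfl
      exact hb ⟨0, by simp⟩
    have hjb : ¬ IsSquare (j b) := fun h => hb ((isSquare_map_iff j hr hc b).1 h)
    have hjb0 : j b ≠ 0 := (map_ne_zero j).2 hb0
    have h3 : IsSquare ((a : F) * (j b)⁻¹) := by
      have h4 : IsSquare ((a : F) * j b) := by
        have e1 := FiniteField.isSquare_iff hch (a := (a : F) * j b) (mul_ne_zero a.ne_zero hjb0)
        rw [e1, mul_pow]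
        have e2 := FiniteField.pow_dichotomy hch (a := (a : F)) a.ne_zero
        have e3 := FiniteField.pow_dichotomy hch hjb0
        rw [FiniteField.isSquare_iff hch a.ne_zero] at ha
        rw [FiniteField.isSquare_iff hch hjb0] at hjb
        rw [e2.resolve_left ha, e3.resolve_left hjb]
        ring
      obtain ⟨s, hs⟩ := h4
      exact ⟨s * (j b)⁻¹, by rw [mul_mul_mul_comm, ← hs]; field_simp⟩
    obtain ⟨s, hs⟩ := h3
    have hs0 : s ≠ 0 := by
      rintro rfl
      rw [mul_zero, mul_eq_zero] at hs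
      rcases hs with hs | hs
      · exact a.ne_zero hs
      · exact inv_ne_zero hjb0 hs
    refine ⟨Units.mk0 b hb0, Units.mk0 s hs0, Units.ext ?_⟩
    rw [Units.val_mul, Units.val_mul, Units.val_mk0]
    change (a : F) = s * s * j b
    rw [← hs, inv_mul_cancel_right₀ hjb0]

/-! ### `Ω` -/

/-- Two subgroups of index two, one below the other. -/
theorem eq_of_index_two {G : Type*} [Group G] {H K : Subgroup G} (h : H ≤ K) (hH : H.index = 2) (hK : K ≠ ⊤) :
    H = K := by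
  have h1 := Subgroup.relIndex_mul_index h
  rw [hH] at h1
  have h2 : K.index ∣ 2 := ⟨_, by rw [mul_comm]; exact h1.symm⟩
  rcases (Nat.dvd_prime Nat.prime_two).1 h2 with h3 | h3
  · exact absurd (Subgroup.index_eq_one.1 h3) hK
  · rw [h3] at h1
    have h4 : H.relIndex K = 1 := by omega
    exact le_antisymm h (Subgroup.relIndex_eq_one.1 h4)

theorem polarBilin_nondeg (hG : Good Q) : (polarBilin Q).Nondegenerate :=
  Cfsg.Agent.H198.Classes.polarBilin_nondegenerate hG.nondeg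

theorem card_of_good (hG : Good Q) : 5 ≤ Fintype.card ι := by
  have := hG.dim
  rwa [Module.finrank_fintype_fun_eq_card] at this

/-- Characteristic two: `Ω` is the kernel of any sign homomorphism which is `-1` on the reflections. -/
theorem omega_of_two [Finite F] (h2 : (2 : F) = 0) (hG : Good Q) (χ : Sim Q →* ℤˣ)
    (hχ : ∀ v hv, χ (rf Q v hv) = -1) (x : isometryGroup F ⇑Q) (hx : χ (isq Q x) = 1) : x ∈ Omega F ⇑Q := by
  have hn := card_of_good hG
  have : Nonempty ι := by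
    rw [← Fintype.card_pos_iff]; omega
  have h1 := Cfsg.Agent.ClassicalGeometry.OrthDickson.index_commutator_two Q h2 (polarBilin_nondeg hG)
    (Or.inr (by omega))
  have h3 : commutator (isometryGroup F ⇑Q) ≤ (χ.comp (isq Q)).ker :=
    Abelianization.commutator_subset_ker _
  obtain ⟨v, hv⟩ := exists_ne_zero_of_good hG
  have h4 : (χ.comp (isq Q)).ker ≠ ⊤ := by
    intro h
    have h5 : reflIso Q v hv ∈ (χ.comp (isq Q)).ker := by rw [h]; exact Subgroup.mem_top _
    have h6 : χ (rf Q v hv) = 1 := h5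
    rw [hχ] at h6
    exact absurd h6 (by decide)
  have h5 := eq_of_index_two h3 h1 h4
  change x ∈ commutator (isometryGroup F ⇑Q)
  rw [h5]
  exact hx

/-- Conversely `Ω` is contained in the kernel of every sign homomorphism. -/
theorem chi_omega (χ : Sim Q →* ℤˣ) {x : isometryGroup F ⇑Q} (hx : x ∈ Omega F ⇑Q) : χ (isq Q x) = 1 := by
  have h3 : commutator (isometryGroup F ⇑Q) ≤ (χ.comp (isq Q)).ker :=
    Abelianization.commutator_subset_ker _
  exact h3 hx

/-! ### Covering -/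

/-- The element of `Inn` given by an element of `Ω`. -/
theorem S_isq_mem_inn (hG : Good Q) {x : isometryGroup F ⇑Q} (hx : x ∈ Omega F ⇑Q) :
    S hG (isq Q x) ∈ Inn (POmega F ⇑Q) := by
  rw [inn_eq hG]
  exact ⟨isq Q x, mem_omGL.2 ⟨x.2, hx⟩, rfl⟩

theorem inn_le (hG : Good Q) {C : Subgroup (Sim Q)} (hom : ∀ x ∈ Omega F ⇑Q, isq Q x ∈ C) :
    Inn (POmega F ⇑Q) ≤ C.map (S hG) := by
  rw [inn_eq hG]
  rintro _ ⟨g, hg, rfl⟩
  obtain ⟨h1, h2⟩ := mem_omGL.1 hg
  exact ⟨g, hom ⟨g.1, h1⟩ h2, rfl⟩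

theorem inn_normal (X : Type*) [Group X] : (Inn X).Normal := by
  refine ⟨?_⟩
  rintro _ ⟨x, rfl⟩ α
  refine ⟨α x, ?_⟩
  ext y
  simp [MulAut.conj_apply]

theorem mu_scg (hG : Good Q) (s : Fˣ) : mu hG (OrthCent.scSim Q s) = s * s := by
  apply mu_unique
  intro v

  rw [show ((OrthCent.scSim Q s : Sim Q) : GL ι F).1 = (s : F) • 1 from rfl, Matrix.smul_mulVec, Matrix.one_mulVec,
    QuadraticMap.map_smul]
  rfl

/-- **The covering statement**: some isometries in `C` outside `Ω` come from `C₀`. -/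
theorem cover (hx : Ext j Q₀ Q) (hG₀ : Good Q₀) (hG : Good Q) [Nonempty ι] {σ : F ≃+* F} (hσ : Fix σ Q)
    (hj : ∀ a, σ a = a ↔ ∃ b, j b = a) (C₀ : Subgroup (Sim Q₀)) (C : Subgroup (Sim Q))
    (hC : ∀ g₀, mapSim hx g₀ ∈ C ↔ g₀ ∈ C₀) (hsc : ∀ e, OrthCent.scSim Q e ∈ C)
    (hsq : ∀ a : Fˣ, ∃ (b : F₀ˣ) (s : Fˣ), a = s * s * Units.map (j : F₀ →* F) b)
    (hmult : ∀ b : F₀ˣ, ∃ g₀ ∈ C₀, mu hG₀ g₀ = b)
    (hiso : ∀ x : isometryGroup F ⇑Q, isq Q x ∈ C → ∃ g₀ ∈ C₀, ∃ y ∈ Omega F ⇑Q, isq Q x = mapSim hx g₀ * isq Q y) :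
    C.map (S hG) ≤ Inn (POmega F ⇑Q) ⊔ (C.map (S hG) ⊓ Subgroup.centralizer {Phi hG (frobG hσ)}) := by
  have hne := exists_ne_zero_of_good hG₀
  have hI := inn_normal (POmega F ⇑Q)
  have hcen : ∀ g₀ ∈ C₀, S hG (mapSim hx g₀) ∈ C.map (S hG) ⊓ Subgroup.centralizer {Phi hG (frobG hσ)} := by
    intro g₀ hg₀
    refine ⟨⟨_, (hC _).2 hg₀, rfl⟩, (comm_iff hx hG hσ hj hne _).2 ⟨1, g₀, ?_⟩⟩
    have h1 : OrthCent.scSim Q 1 = 1 := by
      apply sim_ext
      intro x
      rw [show ((OrthCent.scSim Q 1 : Sim Q) : GL ι F).1 = ((1 : Fˣ) : F) • 1 from rfl, Units.val_one, one_smul]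
      rfl
    rw [h1, one_mul]
  rintro _ ⟨g, hg, rfl⟩
  obtain ⟨b, s, hbs⟩ := hsq (mu hG g)
  obtain ⟨g₀, hg₀, hb⟩ := hmult b
  have h1 : mu hG ((mapSim hx g₀)⁻¹ * ((OrthCent.scSim Q s)⁻¹ * g)) = 1 := by
    rw [map_mul, map_mul, map_inv, map_inv, mu_mapSim hx hG₀ hG, hb, mu_scg, hbs]
    group
  have h2 : (mapSim hx g₀)⁻¹ * ((OrthCent.scSim Q s)⁻¹ * g) ∈ C :=
    mul_mem (inv_mem ((hC _).2 hg₀)) (mul_mem (inv_mem (hsc s)) hg)
  have h3 := (mu_eq_one_iff hG _).1 h1
  obtain ⟨g₁, hg₁, y, hy, hxy⟩ := hiso ⟨_, h3⟩ h2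
  have h4 : (mapSim hx g₀)⁻¹ * ((OrthCent.scSim Q s)⁻¹ * g) = mapSim hx g₁ * isq Q y := hxy
  have h5 : g = OrthCent.scSim Q s * (mapSim hx g₀ * (mapSim hx g₁ * isq Q y)) := by
    rw [← h4]; group
  rw [h5, map_mul, map_mul, map_mul, S_scSim, one_mul]
  refine mul_mem (Subgroup.mem_sup_right (hcen _ hg₀)) (mul_mem (Subgroup.mem_sup_right (hcen _ hg₁)) ?_)
  exact Subgroup.mem_sup_left (S_isq_mem_inn hG hy)

/-- The isometry part, characteristic two. -/
theorem iso_two (hx : Ext j Q₀ Q) [Finite F] (h2 : (2 : F) = 0) (hG : Good Q) (C₀ : Subgroup (Sim Q₀))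
    (χ : Sim Q →* ℤˣ) (hχ : ∀ v hv, χ (rf Q v hv) = -1) (x : isometryGroup F ⇑Q) (hxC : isq Q x ∈ χ.ker) :
    ∃ g₀ ∈ C₀, ∃ y ∈ Omega F ⇑Q, isq Q x = mapSim hx g₀ * isq Q y :=
  ⟨1, one_mem _, x, omega_of_two h2 hG χ hχ x hxC, by rw [map_one, one_mul]⟩

/-- The isometry part, odd characteristic, odd degree. -/
theorem iso_odd (hx : Ext j Q₀ Q) [Finite F] (h2 : (2 : F) ≠ 0) (hG : Good Q)
    (C₀ : Subgroup (Sim Q₀)) (hval : ∀ c : F₀, ∃ v, Q₀ v = c)
    (hns : ∃ c₀ : F₀, ¬ IsSquare (j c₀))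
    (hrefl : ∀ u v hu hv, rf Q₀ u hu * rf Q₀ v hv ∈ C₀)
    (x : isometryGroup F ⇑Q) (hdt : ((x : GL ι F) : Matrix ι ι F).det = 1) :
    ∃ g₀ ∈ C₀, ∃ y ∈ Omega F ⇑Q, isq Q x = mapSim hx g₀ * isq Q y := by
  classical
  have hn := card_of_good hG
  have hmem := Cfsg.Agent.ClassicalGeometry.OmegaIndex.mem_Omega_iff h2 Q (polarBilin_nondeg hG) (by omega)
    (one_ne_zero (α := F))
  rcases Int.units_eq_one_or (Cfsg.Agent.ClassicalGeometry.SpinorSign.spinorSign (⇑Q) 1 x) with h1 | h1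
  · exact ⟨1, one_mem _, x, (hmem x).2 ⟨hdt, h1⟩, by rw [map_one, one_mul]⟩
  · obtain ⟨c₀, hc₀⟩ := hns
    obtain ⟨u, hu⟩ := hval 1
    obtain ⟨v, hv⟩ := hval c₀
    have hu0 : Q₀ u ≠ 0 := by rw [hu]; exact one_ne_zero
    have hv0 : Q₀ v ≠ 0 := by
      rw [hv]
      rintro rfl
      exact hc₀ ⟨0, by simp⟩
    refine ⟨rf Q₀ u hu0 * rf Q₀ v hv0, hrefl u v hu0 hv0,
      (reflIso Q (jv j u) (jv_ne hx hu0) * reflIso Q (jv j v) (jv_ne hx hv0))⁻¹ * x, ?_, ?_⟩
    · rw [hmem]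
      have hsp := Cfsg.Agent.ClassicalGeometry.SpinorSign.spinorSign_reflIso h2 Q (one_ne_zero (α := F))
      constructor
      · have e : ((((reflIso Q (jv j u) (jv_ne hx hu0) * reflIso Q (jv j v) (jv_ne hx hv0))⁻¹ * x :
            isometryGroup F ⇑Q) : GL ι F) : Matrix ι ι F).det =
            (((reflIso Q (jv j u) (jv_ne hx hu0) * reflIso Q (jv j v) (jv_ne hx hv0))⁻¹ :
              isometryGroup F ⇑Q) : GL ι F).1.det * ((x : GL ι F) : Matrix ι ι F).det := by
          rw [← Matrix.det_mul]; rfl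
        have e2 : (reflIso Q (jv j u) (jv_ne hx hu0) * reflIso Q (jv j v) (jv_ne hx hv0))⁻¹ =
            reflIso Q (jv j v) (jv_ne hx hv0) * reflIso Q (jv j u) (jv_ne hx hu0) := by
          rw [_root_.mul_inv_rev, inv_eq_of_mul_eq_one_left (reflIso_mul_self Q _ (jv_ne hx hu0)),
            inv_eq_of_mul_eq_one_left (reflIso_mul_self Q _ (jv_ne hx hv0))]
        rw [e, hdt, mul_one, e2]
        have e3 : ((((reflIso Q (jv j v) (jv_ne hx hv0) * reflIso Q (jv j u) (jv_ne hx hu0) :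
              isometryGroup F ⇑Q) : GL ι F)).1).det =
            ((reflIso Q (jv j v) (jv_ne hx hv0) : GL ι F) : Matrix ι ι F).det *
            ((reflIso Q (jv j u) (jv_ne hx hu0) : GL ι F) : Matrix ι ι F).det := by
          rw [← Matrix.det_mul]; rfl
        rw [e3, det_reflIso, det_reflIso]
        ring
      · rw [map_mul, map_inv, map_mul, h1, hsp, hsp, if_pos, if_neg]
        · decide
        · rw [one_mul, show Q (jv j v) = j (Q₀ v) from hx.app v, hv]
          exact hc₀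
        · rw [one_mul, show Q (jv j u) = j (Q₀ u) from hx.app u, hu, map_one]
          exact ⟨1, by ring⟩
    · rw [map_mul, mapSim_rf, mapSim_rf]
      change _ = isq Q _ * isq Q _ * _
      rw [← map_mul, ← map_mul, mul_inv_cancel_left]

/-- **One class.** -/
theorem split_one (hG : Good Q) {C : Subgroup (Sim Q)} (hom : ∀ x ∈ Omega F ⇑Q, isq Q x ∈ C)
    {φ : MulAut (POmega F ⇑Q)}
    (hcov : C.map (S hG) ≤ Inn (POmega F ⇑Q) ⊔ (C.map (S hG) ⊓ Subgroup.centralizer {φ})) :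
    splitClassCount (C.map (S hG)) (Inn (POmega F ⇑Q)) φ = 1 := by
  have h1 := inn_le hG hom
  have hI := inn_normal (POmega F ⇑Q)
  rw [Cfsg.Agent.H198.SplitCount.splitClassCount_eq_relIndex h1 (fun h _ k hk => hI.conj_mem k hk h)]
  exact Subgroup.relIndex_eq_one.2 hcov

end Cfsg.Agent.H185.SplitOne
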