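import Mathlib
import Cfsg.Agent.H185.SplitOne
import Cfsg.Agent.H208.Twist

/-!
# Transport along an isometry of forms (helper185)

* `isConjUnder_map`, `splitClassCount_map`, `centMap`, `inn_map` : transport along isomorphisms of groups;
* `T : GL ι F` with `Q (T v) = Q' v`: `simE : Sim Q' ≃* Sim Q`, `poE : POmega F Q' ≃* POmega F Q`, `congr_S`;
* `mu_simE`, `dt_simE`, `simE_rf`;
* `kapM_simE`; `map_inndiag_minus` : every isomorphism `POmega F Q⁻_{a,b} ≃* POmega F Q⁻_{a',b'}` maps the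
  inner-diagonal group onto the inner-diagonal group (`m ≥ 3`).
-/

set_option autoImplicit false
set_option linter.unusedSectionVars false

namespace Cfsg.Agent.H185.IsoTransport

open Matrix QuadraticMap Cfsg.Agent.LieClassical.OrthCore Cfsg.Agent.LieClassical.OrthTrans
  Cfsg.Agent.ClassicalGeometry.OrthSemi Cfsg.Agent.ClassicalGeometry.Reflection
  Cfsg.Agent.H198.OrthFrame Cfsg.Agent.H198.ClassesPlus Cfsg.Agent.H198.ExtForm Cfsg.Agent.H185.OrthCent
  Cfsg.Agent.H185.ExtKappa Cfsg.Agent.H185.SplitOne Cfsg.Agent.LieClassical.OrthFinite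
  Cfsg.Agent.H198.Carriers Cfsg.Agent.H198.ClassesMinus

universe u v

section Abstract

variable {X Y : Type*} [Group X] [Group Y]

theorem isConjUnder_map (e : X ≃* Y) (H : Subgroup X) (x y : X) :
    IsConjUnder (H.map e.toMonoidHom) (e x) (e y) ↔ IsConjUnder H x y := by
  constructor
  · rintro ⟨_, ⟨h, hh, rfl⟩, hy⟩
    refine ⟨h, hh, e.injective ?_⟩
    rw [hy, map_mul, map_mul, map_inv]
    rfl
  · rintro ⟨h, hh, rfl⟩
    exact ⟨e h, ⟨h, hh, rfl⟩, by rw [map_mul, map_mul, map_inv]⟩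

theorem splitClassCount_map (e : X ≃* Y) (H K : Subgroup X) (x : X) :
    splitClassCount (H.map e.toMonoidHom) (K.map e.toMonoidHom) (e x) = splitClassCount H K x := by
  refine (Nat.card_congr (Quot.congr (Equiv.subtypeEquiv e.toEquiv fun y => ?_) fun y z => ?_)).symm
  · exact (isConjUnder_map e H x y).symm
  · exact (isConjUnder_map e K y.1 z.1).symm

/-- Centralizers. -/
theorem centMap (e : X ≃* Y) (H : Subgroup X) (x : X) :
    Nonempty (↥(H ⊓ Subgroup.centralizer {x}) ≃* ↥(H.map e.toMonoidHom ⊓ Subgroup.centralizer {e x})) := by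
  have h1 : (H ⊓ Subgroup.centralizer {x}).map e.toMonoidHom =
      H.map e.toMonoidHom ⊓ Subgroup.centralizer {e x} := by
    ext y
    obtain ⟨y, rfl⟩ := e.surjective y
    have h2 : ∀ K : Subgroup X, e y ∈ K.map e.toMonoidHom ↔ y ∈ K := by
      intro K
      constructor
      · rintro ⟨z, hz, hzy⟩
        rwa [← e.injective hzy]
      · intro h
        exact ⟨y, h, rfl⟩
    rw [Subgroup.mem_inf, h2, h2, Subgroup.mem_inf, Subgroup.mem_centralizer_singleton_iff,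
      Subgroup.mem_centralizer_singleton_iff, ← map_mul, ← map_mul, e.injective.eq_iff]
  rw [← h1]
  exact ⟨e.subgroupMap _⟩

theorem inn_map (ψ : X ≃* Y) : (Inn X).map (MulAut.congr ψ).toMonoidHom = Inn Y := by
  ext β
  constructor
  · rintro ⟨_, ⟨x, rfl⟩, rfl⟩
    refine ⟨ψ x, ?_⟩
    ext y
    obtain ⟨y, rfl⟩ := ψ.surjective y
    change ψ x * ψ y * (ψ x)⁻¹ = ψ (x * ψ.symm (ψ y) * x⁻¹)
    rw [ψ.symm_apply_apply, map_mul, map_mul, map_inv]
  · rintro ⟨y, rfl⟩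
    obtain ⟨x, rfl⟩ := ψ.surjective y
    refine ⟨MulAut.conj x, ⟨x, rfl⟩, ?_⟩
    ext y
    obtain ⟨y, rfl⟩ := ψ.surjective y
    change ψ (x * ψ.symm (ψ y) * x⁻¹) = ψ x * ψ y * (ψ x)⁻¹
    rw [ψ.symm_apply_apply, map_mul, map_mul, map_inv]

theorem orderOf_congr (ψ : X ≃* Y) (x : MulAut X) : orderOf (MulAut.congr ψ x) = orderOf x :=
  orderOf_injective (MulAut.congr ψ).toMonoidHom (MulAut.congr ψ).injective x

/-- Everything at once. -/
theorem transport (ψ : X ≃* Y) {x : MulAut X} {y : MulAut Y} {H : Subgroup (MulAut X)}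
    {H' : Subgroup (MulAut Y)} (hH : H.map (MulAut.congr ψ).toMonoidHom = H') (hy : MulAut.congr ψ x = y) :
    orderOf x = orderOf y ∧
      Nonempty (↥(H ⊓ Subgroup.centralizer {x}) ≃* ↥(H' ⊓ Subgroup.centralizer {y})) ∧
      splitClassCount H (Inn X) x = splitClassCount H' (Inn Y) y := by
  subst hH hy
  refine ⟨(orderOf_congr ψ x).symm, centMap (MulAut.congr ψ) H x, ?_⟩
  rw [← splitClassCount_map (MulAut.congr ψ) H (Inn X) x, inn_map]

end Abstract

variable {ι : Type} [Fintype ι] [DecidableEq ι] {F : Type u} [Field F]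
  {Q Q' : QuadraticForm F (ι → F)} {T : GL ι F}

theorem inv_form (hT : ∀ v : ι → F, Q ((T : Matrix ι ι F) *ᵥ v) = Q' v) (v : ι → F) :
    Q' (((T⁻¹ : GL ι F) : Matrix ι ι F) *ᵥ v) = Q v := by
  rw [← hT, mulVec_mulVec, ← Units.val_mul, mul_inv_cancel, Units.val_one, one_mulVec]

theorem conj_sim (hT : ∀ v : ι → F, Q ((T : Matrix ι ι F) *ᵥ v) = Q' v) {g : GL ι F} {c : F}
    (hg : ∀ v : ι → F, Q' ((g : Matrix ι ι F) *ᵥ v) = c * Q' v) (v : ι → F) :
    Q (((T * g * T⁻¹ : GL ι F) : Matrix ι ι F) *ᵥ v) = c * Q v := by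
  rw [Units.val_mul, Units.val_mul, ← mulVec_mulVec, ← mulVec_mulVec, hT, hg, inv_form hT]

/-- Conjugation on similarities. -/
def simE (hT : ∀ v : ι → F, Q ((T : Matrix ι ι F) *ᵥ v) = Q' v) : Sim Q' ≃* Sim Q where
  toFun g := ⟨T * g.1 * T⁻¹, by
    obtain ⟨c, hc⟩ := g.2
    exact ⟨c, fun v => conj_sim hT hc v⟩⟩
  invFun g := ⟨T⁻¹ * g.1 * T⁻¹⁻¹, by
    obtain ⟨c, hc⟩ := g.2
    exact ⟨c, fun v => conj_sim (inv_form hT) hc v⟩⟩
  left_inv g := Subtype.ext (by change T⁻¹ * (T * g.1 * T⁻¹) * T⁻¹⁻¹ = g.1; group)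
  right_inv g := Subtype.ext (by change T * (T⁻¹ * g.1 * T⁻¹⁻¹) * T⁻¹ = g.1; group)
  map_mul' g h := Subtype.ext (by
    change T * (g.1 * h.1) * T⁻¹ = (T * g.1 * T⁻¹) * (T * h.1 * T⁻¹); group)

theorem coe_simE (hT : ∀ v : ι → F, Q ((T : Matrix ι ι F) *ᵥ v) = Q' v) (g : Sim Q') :
    ((simE hT g : Sim Q) : GL ι F) = T * g.1 * T⁻¹ := rfl

theorem simE_mulVec (hT : ∀ v : ι → F, Q ((T : Matrix ι ι F) *ᵥ v) = Q' v) (g : Sim Q') (v : ι → F) :
    ((simE hT g : GL ι F) : Matrix ι ι F) *ᵥ ((T : Matrix ι ι F) *ᵥ v) =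
      (T : Matrix ι ι F) *ᵥ (((g : GL ι F) : Matrix ι ι F) *ᵥ v) := by
  rw [coe_simE, mulVec_mulVec, mulVec_mulVec, ← Units.val_mul, ← Units.val_mul, inv_mul_cancel_right]

theorem exists_T (T : GL ι F) (v : ι → F) : ∃ w : ι → F, (T : Matrix ι ι F) *ᵥ w = v :=
  ⟨((T⁻¹ : GL ι F) : Matrix ι ι F) *ᵥ v, by
    rw [mulVec_mulVec, ← Units.val_mul, mul_inv_cancel, Units.val_one, one_mulVec]⟩

theorem mu_simE (hT : ∀ v : ι → F, Q ((T : Matrix ι ι F) *ᵥ v) = Q' v) (hG : Good Q) (hG' : Good Q')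
    (g : Sim Q') : mu hG (simE hT g) = mu hG' g :=
  mu_unique hG _ fun v => conj_sim hT (mu_spec hG' g) v

theorem dt_simE (hT : ∀ v : ι → F, Q ((T : Matrix ι ι F) *ᵥ v) = Q' v) (g : Sim Q') :
    dt (simE hT g) = dt g := by
  change Matrix.GeneralLinearGroup.det (T * g.1 * T⁻¹) = Matrix.GeneralLinearGroup.det g.1
  rw [map_mul, map_mul, mul_right_comm, map_inv, mul_inv_cancel, one_mul]

theorem simE_rf (hT : ∀ v : ι → F, Q ((T : Matrix ι ι F) *ᵥ v) = Q' v) (v : ι → F) (hv : Q' v ≠ 0) :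
    simE hT (rf Q' v hv) = rf Q ((T : Matrix ι ι F) *ᵥ v) (by rw [hT]; exact hv) := by
  apply sim_ext
  intro x
  obtain ⟨x, rfl⟩ := exists_T T x
  rw [simE_mulVec, rf_mulVec, rf_mulVec, mulVec_sub, mulVec_smul, hT]
  congr 3
  rw [polar, polar, ← mulVec_add, hT, hT, hT]

/-- Conjugation on isometries. -/
def isoE (hT : ∀ v : ι → F, Q ((T : Matrix ι ι F) *ᵥ v) = Q' v) :
    isometryGroup F ⇑Q' ≃* isometryGroup F ⇑Q where
  toFun g := ⟨T * g.1 * T⁻¹, fun v _ => by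
    have h := conj_sim hT (c := 1) (fun w => by rw [one_mul]; exact g.2 w w) v
    rw [one_mul] at h
    exact h⟩
  invFun g := ⟨T⁻¹ * g.1 * T⁻¹⁻¹, fun v _ => by
    have h := conj_sim (inv_form hT) (c := 1) (fun w => by rw [one_mul]; exact g.2 w w) v
    rw [one_mul] at h
    exact h⟩
  left_inv g := Subtype.ext (by change T⁻¹ * (T * g.1 * T⁻¹) * T⁻¹⁻¹ = g.1; group)
  right_inv g := Subtype.ext (by change T * (T⁻¹ * g.1 * T⁻¹⁻¹) * T⁻¹ = g.1; group)
  map_mul' g h := Subtype.ext (by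
    change T * (g.1 * h.1) * T⁻¹ = (T * g.1 * T⁻¹) * (T * h.1 * T⁻¹); group)

theorem map_Omega (hT : ∀ v : ι → F, Q ((T : Matrix ι ι F) *ᵥ v) = Q' v) :
    (Omega F ⇑Q').map (isoE hT).toMonoidHom = Omega F ⇑Q := by
  rw [Omega, Omega, commutator_def, commutator_def, Subgroup.map_commutator,
    ← MonoidHom.range_eq_map, MonoidHom.range_eq_top.2 (isoE hT).surjective]

/-- Conjugation on `Ω`. -/
noncomputable def omE (hT : ∀ v : ι → F, Q ((T : Matrix ι ι F) *ᵥ v) = Q' v) : Omega F ⇑Q' ≃* Omega F ⇑Q :=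
  ((isoE hT).subgroupMap (Omega F ⇑Q')).trans (MulEquiv.subgroupCongr (map_Omega hT))

theorem coe_omE (hT : ∀ v : ι → F, Q ((T : Matrix ι ι F) *ᵥ v) = Q' v) (s : Omega F ⇑Q') :
    (((omE hT s : Omega F ⇑Q) : isometryGroup F ⇑Q) : GL ι F) = T * s.1.1 * T⁻¹ := rfl

theorem omE_mulVec (hT : ∀ v : ι → F, Q ((T : Matrix ι ι F) *ᵥ v) = Q' v) (s : Omega F ⇑Q') (v : ι → F) :
    ((((omE hT s : Omega F ⇑Q) : isometryGroup F ⇑Q) : GL ι F) : Matrix ι ι F) *ᵥ ((T : Matrix ι ι F) *ᵥ v) =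
      (T : Matrix ι ι F) *ᵥ ((((s : Omega F ⇑Q').1 : GL ι F) : Matrix ι ι F) *ᵥ v) := by
  rw [coe_omE, mulVec_mulVec, mulVec_mulVec, ← Units.val_mul, ← Units.val_mul, inv_mul_cancel_right]

/-- Conjugation on `PΩ`. -/
noncomputable def poE (hT : ∀ v : ι → F, Q ((T : Matrix ι ι F) *ᵥ v) = Q' v) :
    POmega F ⇑Q' ≃* POmega F ⇑Q := quotientCenterCongr (omE hT)

theorem poE_mk (hT : ∀ v : ι → F, Q ((T : Matrix ι ι F) *ᵥ v) = Q' v) (s : Omega F ⇑Q') :
    poE hT (QuotientGroup.mk s) = QuotientGroup.mk (omE hT s) := rfl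

/-- **Transport of the automorphisms.** -/
theorem congr_S (hT : ∀ v : ι → F, Q ((T : Matrix ι ι F) *ᵥ v) = Q' v) (hG : Good Q) (hG' : Good Q')
    (g : Sim Q') : MulAut.congr (poE hT) (S hG' g) = S hG (simE hT g) := by
  ext x
  obtain ⟨x, rfl⟩ := (poE hT).surjective x
  obtain ⟨s, rfl⟩ := QuotientGroup.mk_surjective x
  change poE hT (S hG' g ((poE hT).symm (poE hT (QuotientGroup.mk s)))) = _
  rw [MulEquiv.symm_apply_apply]
  obtain ⟨s', hs'⟩ := exists_conj hG' (simGam Q' g) s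
  have h1 : S hG' g (QuotientGroup.mk s) = QuotientGroup.mk s' := Phi_mk hG' _ hs'
  rw [h1, poE_mk, poE_mk]
  symm
  apply Phi_mk
  intro v
  obtain ⟨v, rfl⟩ := exists_T T v
  rw [simGam_apply, simGam_apply, simE_mulVec, omE_mulVec, omE_mulVec, simE_mulVec]
  congr 1
  exact hs' v

/-! ### The minus form -/

section Minus

variable {F : Type u} [Field F] {m : ℕ} {a b a' b' : F}

/-- Two minus-type forms over a finite field are isometric. -/
theorem exists_isometry [Finite F] (m : ℕ) (hab : Aniso a b) (hab' : Aniso a' b') :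
    ∃ T : GL ((Fin m ⊕ Fin m) ⊕ Fin 2) F, ∀ v : (Fin m ⊕ Fin m) ⊕ Fin 2 → F,
      minusQ m F a b ((T : Matrix ((Fin m ⊕ Fin m) ⊕ Fin 2) ((Fin m ⊕ Fin m) ⊕ Fin 2) F) *ᵥ v) =
        minusQ m F a' b' v := by
  obtain ⟨μ₁, μ₂, h0, h1, h2⟩ := H208.Twist.exists_twist hab hab'
  obtain ⟨T, hT⟩ := H198.SemiMat.exists_gl (RingEquiv.refl F) (H208.Twist.tw m μ₁ μ₂ h0)
    (H208.Twist.tw m μ₁ μ₂ h0).bijective (map_add _) (map_smul _)
  refine ⟨T, fun v => ?_⟩
  have h3 := H208.Twist.tw_form m h0 h1 h2 v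
  rw [hT] at h3
  exact h3

theorem kapM_simE [Finite F] (hm : 2 ≤ m) (hab : Aniso a b) (hab' : Aniso a' b')
    {T : GL ((Fin m ⊕ Fin m) ⊕ Fin 2) F} (hT : ∀ v : (Fin m ⊕ Fin m) ⊕ Fin 2 → F,
      minusQ m F a b ((T : Matrix ((Fin m ⊕ Fin m) ⊕ Fin 2) ((Fin m ⊕ Fin m) ⊕ Fin 2) F) *ᵥ v) =
        minusQ m F a' b' v) (g : Sim (minusQ m F a' b')) :
    kapM hab (simE hT g) = kapM hab' g := by
  have hG := good_minusQ hm hab
  have hG' := good_minusQ hm hab'
  by_cases h2 : (2 : F) = 0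
  · have h3 : (kapM hab).comp (simE hT).toMonoidHom = kapM hab' := by
      apply hom_unique_two h2 hG'
      intro v hv
      rw [kapM_refl, simO_refl]
      change kapM hab (simE hT (rf _ v hv)) = -1
      rw [simE_rf, ← simO_refl, kapM_refl]
    exact DFunLike.congr_fun h3 g
  · have h3 := sgn_kapM hm hab hG (simE hT g)
    rw [mu_simE hT hG hG', dt_simE, ← sgn_kapM hm hab' hG' g, mul_left_inj] at h3
    have h4 : sgn F (kapM hab (simE hT g) * (kapM hab' g)⁻¹) = 1 := by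
      rw [map_mul, map_inv, h3, mul_inv_cancel]
    rw [sgn_eq_one_iff h2, mul_inv_eq_one] at h4
    exact h4

theorem map_simMinus [Finite F] (hm : 2 ≤ m) (hab : Aniso a b) (hab' : Aniso a' b')
    {T : GL ((Fin m ⊕ Fin m) ⊕ Fin 2) F} (hT : ∀ v : (Fin m ⊕ Fin m) ⊕ Fin 2 → F,
      minusQ m F a b ((T : Matrix ((Fin m ⊕ Fin m) ⊕ Fin 2) ((Fin m ⊕ Fin m) ⊕ Fin 2) F) *ᵥ v) =
        minusQ m F a' b' v) :
    (inndiagPOmegaMinus m F a' b').map (MulAut.congr (poE hT)).toMonoidHom = inndiagPOmegaMinus m F a b := by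
  have hG := good_minusQ hm hab
  have hG' := good_minusQ hm hab'
  rw [inndiag_minus_eq hm hab hG, inndiag_minus_eq hm hab' hG']
  ext β
  constructor
  · rintro ⟨_, ⟨g, hg, rfl⟩, rfl⟩
    refine ⟨simE hT g, ?_, (congr_S hT hG hG' g).symm⟩
    exact (kapM_simE hm hab hab' hT g).trans hg
  · rintro ⟨g, hg, rfl⟩
    obtain ⟨g, rfl⟩ := (simE hT).surjective g
    exact ⟨_, ⟨g, (kapM_simE hm hab hab' hT g).symm.trans hg, rfl⟩, congr_S hT hG hG' g⟩

theorem map_conj_normal {X : Type*} [Group X] {N : Subgroup (MulAut X)} (hN : N.Normal) (α : X ≃* X) :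
    N.map (MulAut.congr α).toMonoidHom = N := by
  have h1 : ∀ β : MulAut X, MulAut.congr α β = (α : MulAut X) * β * (α : MulAut X)⁻¹ := fun β => rfl
  ext β
  constructor
  · rintro ⟨γ, hγ, rfl⟩
    change MulAut.congr α γ ∈ N
    rw [h1]
    exact hN.conj_mem _ hγ _
  · intro hβ
    refine ⟨(α : MulAut X)⁻¹ * β * (α : MulAut X), ?_, ?_⟩
    · have h2 := hN.conj_mem _ hβ (α : MulAut X)⁻¹
      rwa [inv_inv] at h2
    · change MulAut.congr α _ = β
      rw [h1]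
      group

/-- Every isomorphism respects the inner-diagonal groups. -/
theorem map_inndiag_minus [Finite F] (hm : 3 ≤ m) (hab : Aniso a b) (hab' : Aniso a' b')
    (ψ : POmega F (quadFormMinus m F a b) ≃* POmega F (quadFormMinus m F a' b')) :
    (inndiagPOmegaMinus m F a b).map (MulAut.congr ψ).toMonoidHom = inndiagPOmegaMinus m F a' b' := by
  obtain ⟨T, hT⟩ := exists_isometry m hab hab'
  let ψ₀ : POmega F (quadFormMinus m F a' b') ≃* POmega F (quadFormMinus m F a b) := poE hT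
  have h1 : (inndiagPOmegaMinus m F a' b').map (MulAut.congr ψ₀).toMonoidHom = inndiagPOmegaMinus m F a b :=
    map_simMinus (by omega) hab hab' hT
  have h2 : (MulAut.congr ψ).toMonoidHom.comp (MulAut.congr ψ₀).toMonoidHom =
      (MulAut.congr (ψ₀.trans ψ)).toMonoidHom := by
    ext β x
    rfl
  rw [← h1, Subgroup.map_map, h2]
  exact map_conj_normal (inndiag_minus_normal hm hab') _

end Minus

end Cfsg.Agent.H185.IsoTransport
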