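import Mathlib
import Cfsg.Agent.H185.IsoTransport
import Cfsg.Agent.H183.Disc
import Cfsg.Agent.Lib.FieldAutCard

/-!
# Field automorphisms of the minus-type groups (helper185)

* `exists_mult` : even dimension: every nonzero scalar is a multiplier; `exists_mult_ker` : inside the kernel of a sign
  homomorphism which is `-1` on the reflections;
* `exists_val`, `scSim_eq`;
* `ext_minus`, `fix_minus`; `kapM_mapSim`, `kapM_sc`, `det_of_kapM`;
* `cover_minus`.
-/

set_option autoImplicit false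
set_option linter.unusedSectionVars false

namespace Cfsg.Agent.H185.MinusField

open Matrix Module QuadraticMap Cfsg.Agent.LieClassical.OrthCore Cfsg.Agent.LieClassical.OrthTrans
  Cfsg.Agent.ClassicalGeometry.OrthSemi Cfsg.Agent.ClassicalGeometry.Reflection
  Cfsg.Agent.H198.OrthFrame Cfsg.Agent.H198.ClassesPlus Cfsg.Agent.H198.ExtForm Cfsg.Agent.H185.OrthCent
  Cfsg.Agent.H185.ExtKappa Cfsg.Agent.H185.SplitOne Cfsg.Agent.H185.IsoTransport
  Cfsg.Agent.H198.Carriers Cfsg.Agent.H198.ClassesMinus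

universe u v

section General

variable {ι : Type} [Fintype ι] [DecidableEq ι] {F : Type u} [Field F] {Q : QuadraticForm F (ι → F)}

/-- Even dimension, finite field: every nonzero scalar is a multiplier. -/
theorem exists_mult [Finite F] (hG : Good Q) (he : Even (Fintype.card ι)) (c : Fˣ) :
    ∃ g : Sim Q, mu hG g = c := by
  classical
  have := Fintype.ofFinite F
  let e : ι ≃ Fin (Fintype.card ι) := Fintype.equivFin ι
  let L : (Fin (Fintype.card ι) → F) ≃ₗ[F] (ι → F) := LinearEquiv.funCongrLeft F F e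
  have hnd := polarBilin_nondeg hG
  have hnd' : (polarBilin (Q.comp L.toLinearMap)).Nondegenerate := by
    have h1 : ∀ x y, polarBilin (Q.comp L.toLinearMap) x y = polarBilin Q (L x) (L y) := by
      intro x y
      change Q (L (x + y)) - Q (L x) - Q (L y) = Q (L x + L y) - Q (L x) - Q (L y)
      rw [map_add]
    refine ⟨fun x hx => ?_, fun x hx => ?_⟩
    · apply L.injective
      rw [map_zero]
      refine hnd.1 _ fun y => ?_
      obtain ⟨y, rfl⟩ := L.surjective y
      rw [← h1]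
      exact hx y
    · apply L.injective
      rw [map_zero]
      refine hnd.2 _ fun y => ?_
      obtain ⟨y, rfl⟩ := L.surjective y
      rw [← h1]
      exact hx y
  obtain ⟨g, hg⟩ := H183.similar_of_even he (Q.comp L.toLinearMap) hnd' (c : F) c.ne_zero
  let T : (ι → F) ≃ₗ[F] (ι → F) := (L.symm.trans g).trans L
  have hT : ∀ v, Q (T v) = c * Q v := by
    intro v
    obtain ⟨v, rfl⟩ := L.surjective v
    have h1 : T (L v) = L (g v) := by
      change L (g (L.symm (L v))) = _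
      rw [L.symm_apply_apply]
    rw [h1]
    exact hg v
  obtain ⟨M, hM⟩ := H198.SemiMat.exists_gl (RingEquiv.refl F) T T.bijective (map_add _) (map_smul _)
  have hM' : ∀ v : ι → F, Q ((M : Matrix ι ι F) *ᵥ v) = c * Q v := fun v => by
    rw [← hT v, hM]
    rfl
  exact ⟨⟨M, c, hM'⟩, mu_unique hG _ hM'⟩

theorem mu_rf (hG : Good Q) (v : ι → F) (hv : Q v ≠ 0) : mu hG (rf Q v hv) = 1 :=
  (mu_eq_one_iff hG _).2 (reflIso Q v hv).2

theorem exists_mult_ker [Finite F] (hG : Good Q) (he : Even (Fintype.card ι)) (χ : Sim Q →* ℤˣ)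
    (hχ : ∀ v hv, χ (rf Q v hv) = -1) (c : Fˣ) : ∃ g ∈ χ.ker, mu hG g = c := by
  obtain ⟨g, hg⟩ := exists_mult hG he c
  rcases Int.units_eq_one_or (χ g) with h1 | h1
  · exact ⟨g, h1, hg⟩
  · obtain ⟨v, hv⟩ := exists_ne_zero_of_good hG
    refine ⟨g * rf Q v hv, ?_, ?_⟩
    · rw [MonoidHom.mem_ker, map_mul, h1, hχ]
      rfl
    · rw [map_mul, hg, mu_rf, mul_one]

theorem exists_val (hG : Good Q) (c : F) : ∃ v, Q v = c := by
  obtain ⟨x, y, h⟩ := hG.exists_hyp
  refine ⟨x + c • y, ?_⟩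
  rw [Q_add, QuadraticMap.map_smul, h.left, h.right, polar_smul_right, h.pair]
  simp

theorem scSim_eq (e : Fˣ) : OrthCent.scSim Q e = H198.ClassesMinus.scSim Q e := by
  apply sim_ext
  intro v
  rw [H198.ClassesMinus.scSim_mulVec, show ((OrthCent.scSim Q e : Sim Q) : GL ι F).1 = (e : F) • 1 from rfl,
    Matrix.smul_mulVec, Matrix.one_mulVec]

end General

section Minus

variable {F : Type u} [Field F] {F₀ : Type v} [Field F₀] {j : F₀ →+* F} {m : ℕ}

theorem ext_minus (j : F₀ →+* F) (m : ℕ) (a b : F₀) : Ext j (minusQ m F₀ a b) (minusQ m F (j a) (j b)) :=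
  ⟨fun v => by
    change quadFormMinus m F (j a) (j b) (fun i => j (v i)) = j (quadFormMinus m F₀ a b v)
    simp only [quadFormMinus, map_add, map_sum, map_mul, map_pow]⟩

theorem fix_minus {σ : F ≃+* F} {a b : F} (ha : σ a = a) (hb : σ b = b) (m : ℕ) : Fix σ (minusQ m F a b) := by
  intro v
  change quadFormMinus m F a b (fun i => σ (v i)) = σ (quadFormMinus m F a b v)
  simp only [quadFormMinus, map_add, map_sum, map_mul, map_pow, ha, hb]

variable {a b : F}

theorem kapM_rf [Finite F] (hab : Aniso a b) {v : (Fin m ⊕ Fin m) ⊕ Fin 2 → F} (hv : minusQ m F a b v ≠ 0) :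
    kapM hab (rf _ v hv) = -1 := by
  rw [← simO_refl, kapM_refl]

theorem kapM_mapSim [Finite F] [Finite F₀] (hm : 2 ≤ m) {a b : F₀} (hab : Aniso a b) (hab' : Aniso (j a) (j b))
    (g : Sim (minusQ m F₀ a b)) :
    kapM hab' (mapSim (ext_minus j m a b) g) = kapM hab g := by
  have hG₀ := good_minusQ hm hab
  have hG := good_minusQ hm hab'
  by_cases h2 : (2 : F₀) = 0
  · have h3 : (kapM hab').comp (mapSim (ext_minus j m a b)) = kapM hab := by
      apply hom_unique_two h2 hG₀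
      intro v hv
      rw [kapM_refl, simO_refl, MonoidHom.comp_apply, mapSim_rf, kapM_rf]
    exact DFunLike.congr_fun h3 g
  · have h2' : (2 : F) ≠ 0 := by
      rw [← map_ofNat j]
      exact (map_ne_zero j).2 h2
    have h3 := sgn_kapM hm hab' hG (mapSim (ext_minus j m a b) g)
    rw [mu_mapSim _ hG₀ hG, dt_mapSim, ← sgn_kapM hm hab hG₀ g, map_mul, map_pow, mul_left_inj] at h3
    have h4 : Units.map (j : F₀ →* F) (sgn F₀ (kapM hab g)) = sgn F (kapM hab g) := by
      apply Units.ext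
      simp [sgn]
    rw [h4] at h3
    have h5 : sgn F (kapM hab' (mapSim (ext_minus j m a b) g) * (kapM hab g)⁻¹) = 1 := by
      rw [map_mul, map_inv, h3, mul_inv_cancel]
    rw [sgn_eq_one_iff h2', mul_inv_eq_one] at h5
    exact h5

theorem card_I (m : ℕ) : Fintype.card ((Fin m ⊕ Fin m) ⊕ Fin 2) = 2 * (m + 1) := by
  simp only [Fintype.card_sum, Fintype.card_fin]
  ring

theorem kapM_sc [Finite F] (hm : 2 ≤ m) (hab : Aniso a b) (e : Fˣ) :
    kapM hab (OrthCent.scSim (minusQ m F a b) e) = 1 := by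
  have hG := good_minusQ hm hab
  rw [scSim_eq]
  by_cases h2 : (2 : F) = 0
  · obtain ⟨s, rfl⟩ := exists_sq_of_two h2 e
    rw [map_mul, map_mul, Int.units_mul_self]
  · rw [kapM_iff hm hab hG h2, dt_scSim, mu_scSim, card_I, ← pow_two, ← pow_mul]

theorem det_of_kapM [Finite F] (hm : 2 ≤ m) (hab : Aniso a b) (x : isometryGroup F ⇑(minusQ m F a b))
    (hx : kapM hab (isq _ x) = 1) :
    ((x : GL ((Fin m ⊕ Fin m) ⊕ Fin 2) F) :
      Matrix ((Fin m ⊕ Fin m) ⊕ Fin 2) ((Fin m ⊕ Fin m) ⊕ Fin 2) F).det = 1 := by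
  have hG := good_minusQ hm hab
  have h1 := sgn_kapM hm hab hG (isq _ x)
  rw [hx, map_one, (mu_eq_one_iff hG (isq _ x)).2 x.2, one_pow, one_mul] at h1
  exact (congrArg Units.val h1).symm

/-- The covering statement for the minus type. -/
theorem cover_minus [Finite F] [Finite F₀] (hm : 2 ≤ m) {a b : F₀} (hab : Aniso a b) (hab' : Aniso (j a) (j b))
    {σ : F ≃+* F} (hj : ∀ a, σ a = a ↔ ∃ b, j b = a) {r : ℕ} (hr : Odd r) (hc : Nat.card F = Nat.card F₀ ^ r)
    (hG : Good (minusQ m F (j a) (j b))) (hσ : Fix σ (minusQ m F (j a) (j b))) :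
    (simMinus m hab').map (S hG) ≤ Inn (POmega F ⇑(minusQ m F (j a) (j b))) ⊔
      ((simMinus m hab').map (S hG) ⊓ Subgroup.centralizer {Phi hG (frobG hσ)}) := by
  have hG₀ := good_minusQ hm hab
  have hχ₀ : ∀ v hv, kapM hab (rf (minusQ m F₀ a b) v hv) = -1 := fun v hv => kapM_rf hab hv
  have hχ : ∀ v hv, kapM hab' (rf (minusQ m F (j a) (j b)) v hv) = -1 := fun v hv => kapM_rf hab' hv
  have he : Even (Fintype.card ((Fin m ⊕ Fin m) ⊕ Fin 2)) := ⟨m + 1, by rw [card_I]; ring⟩
  apply cover (ext_minus j m a b) hG₀ hG hσ hj (simMinus m hab) (simMinus m hab')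
  · intro g₀
    rw [mem_simMinus, mem_simMinus, kapM_mapSim hm hab hab']
  · exact kapM_sc hm hab'
  · exact exists_sq_mul j hr hc
  · exact exists_mult_ker hG₀ he (kapM hab) hχ₀
  · intro x hx
    by_cases h2 : (2 : F) = 0
    · exact iso_two (ext_minus j m a b) h2 hG (simMinus m hab) (kapM hab') hχ x hx
    · have h2' : ringChar F₀ ≠ 2 := by
        intro h
        apply h2
        rw [← map_ofNat j]
        have h3 := ringChar.Nat.cast_ringChar (R := F₀)
        rw [h] at h3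
        rw [show (2 : F₀) = 0 by exact_mod_cast h3, map_zero]
      obtain ⟨c₀, hc₀⟩ := FiniteField.exists_nonsquare h2'
      refine iso_odd (ext_minus j m a b) h2 hG (simMinus m hab) (exists_val hG₀)
        ⟨c₀, fun h => hc₀ ((isSquare_map_iff j hr hc c₀).1 h)⟩ ?_ x (det_of_kapM hm hab' x hx)
      intro u v hu hv
      rw [mem_simMinus, map_mul, hχ₀, hχ₀]
      rfl

/-- The centralizer for the minus type. -/
theorem cent_minus [Finite F] [Finite F₀] (hm : 2 ≤ m) {a b : F₀} (hab : Aniso a b) (hab' : Aniso (j a) (j b))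
    {σ : F ≃+* F} (hj : ∀ a, σ a = a ↔ ∃ b, j b = a)
    (hG : Good (minusQ m F (j a) (j b))) (hσ : Fix σ (minusQ m F (j a) (j b))) :
    Nonempty (↥((simMinus m hab').map (S hG) ⊓ Subgroup.centralizer {Phi hG (frobG hσ)}) ≃*
      ↥(inndiagPOmegaMinus m F₀ a b)) := by
  have hG₀ := good_minusQ hm hab
  have hC : ∀ g₀, mapSim (ext_minus j m a b) g₀ ∈ simMinus m hab' ↔ g₀ ∈ simMinus m hab := by
    intro g₀
    rw [mem_simMinus, mem_simMinus, kapM_mapSim hm hab hab']
  have hne : Nonempty ((Fin m ⊕ Fin m) ⊕ Fin 2) := ⟨.inr 0⟩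
  rw [inndiag_minus_eq hm hab hG₀]
  exact centIso (ext_minus j m a b) hG₀ hG hσ hj (simMinus m hab) (simMinus m hab') hC (kapM_sc hm hab')

end Minus

theorem aniso_of_map {F : Type u} [Field F] {F₀ : Type v} [Field F₀] (j : F₀ →+* F) {a b : F₀}
    (h : Aniso (j a) (j b)) : Aniso a b := by
  intro z₁ z₂ hz
  have h1 := congrArg j hz
  simp only [map_add, map_mul, map_pow, map_zero] at h1
  have h2 := h (j z₁) (j z₂) h1
  exact ⟨j.injective (h2.1.trans (map_zero j).symm), j.injective (h2.2.trans (map_zero j).symm)⟩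

theorem not_aniso_sq {F : Type u} [Field F] [Finite F] {F₀ : Type v} [Field F₀] [Finite F₀] (j : F₀ →+* F) {a b : F₀}
    (hab : Aniso a b) (hc : Nat.card F = Nat.card F₀ ^ 2) : ¬ Aniso (j a) (j b) := by
  intro h
  have := Fintype.ofFinite F
  have := Fintype.ofFinite F₀
  let : Algebra F₀ F := j.toAlgebra
  have h3 : finrank F₀ F = 2 := by
    have h4 := Module.card_eq_pow_finrank (K := F₀) (V := F)
    rw [← Nat.card_eq_fintype_card, ← Nat.card_eq_fintype_card, hc] at h4
    exact (Nat.pow_right_injective (by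
      rw [Nat.card_eq_fintype_card]
      exact Fintype.one_lt_card) h4).symm
  obtain ⟨α, β, h5, h6, -, -⟩ := exists_roots hab h3
  change α + β = j a at h5
  change α * β = j b at h6
  have h7 := h (-α) 1 (by
    rw [← h5, ← h6]
    ring)
  exact one_ne_zero h7.2

/-- **The field automorphisms of the minus-type groups.** -/
theorem main {F : Type u} [Field F] [Fintype F] {p f : ℕ} [Fact p.Prime] (hF : Fintype.card F = p ^ f) (hf : 1 ≤ f)
    {m : ℕ} (hm : 3 ≤ m) {a b : F} (hab : Aniso a b) (x : MulAut (POmega F (quadFormMinus m F a b)))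
    {a' b' : F} (ψ : POmega F (quadFormMinus m F a b) ≃* POmega F ⇑(minusQ m F a' b')) {σ : F ≃+* F}
    (hab' : Aniso a' b') (ha' : σ a' = a') (hb' : σ b' = b')
    (hψ : IsFieldAutPOmegaOf (⇑(minusQ m F a' b')) σ (MulAut.congr ψ x))
    {r : ℕ} (hr : r.Prime) (hxr : orderOf x = r) (F₀ : Type v) [Field F₀] [Fintype F₀]
    (hF₀ : Fintype.card F₀ = p ^ (f / r)) :
    Odd r ∧ r ∣ f ∧ (∃ a₀ b₀ : F₀, Aniso a₀ b₀ ∧
      Nonempty (↥(inndiagPOmegaMinus m F a b ⊓ Subgroup.centralizer {x}) ≃* ↥(inndiagPOmegaMinus m F₀ a₀ b₀))) ∧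
    splitClassCount (inndiagPOmegaMinus m F a b) (Inn (POmega F (quadFormMinus m F a b))) x = 1 := by
  have hm2 : 2 ≤ m := by omega
  have hfix : Fix σ (minusQ m F a' b') := fix_minus ha' hb' m
  have hG' := good_minusQ hm2 hab'
  have hy : MulAut.congr ψ x = Phi hG' (frobG hfix) := (isFieldAut_iff hG' hfix _).1 hψ
  have hmap : (inndiagPOmegaMinus m F a b).map (MulAut.congr ψ).toMonoidHom = (simMinus m hab').map (S hG') :=
    (map_inndiag_minus hm hab hab' ψ).trans (inndiag_minus_eq hm2 hab' hG')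
  obtain ⟨ho, ⟨e1⟩, hcount⟩ := transport ψ hmap hy
  have hne : Nonempty ((Fin m ⊕ Fin m) ⊕ Fin 2) := ⟨.inr 0⟩
  have hord : orderOf σ = r := by
    rw [← orderOf_Phi_frob hG' hfix, ← ho, hxr]
  have hrf : r ∣ f := by
    have h1 : Nat.card (F ≃+* F) = f := Lib.FieldAutCard.card_ringAut hf hF
    rw [← h1, ← hord]
    exact orderOf_dvd_natCard σ
  have hc : Nat.card F = Nat.card F₀ ^ r := by
    rw [Nat.card_eq_fintype_card, Nat.card_eq_fintype_card, hF, hF₀, ← pow_mul, Nat.div_mul_cancel hrf]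
  obtain ⟨j, hj⟩ := H202.Descent.exists_hom (F := F) (F₀ := F₀) hord hr.pos hc
  obtain ⟨a₀, rfl⟩ := (hj a').1 ha'
  obtain ⟨b₀, rfl⟩ := (hj b').1 hb'
  have hab₀ : Aniso a₀ b₀ := aniso_of_map j hab'
  have hodd : Odd r := by
    rcases hr.eq_two_or_odd' with h2 | h2
    · exfalso
      subst h2
      exact not_aniso_sq j hab₀ hc hab'
    · exact h2
  have hG₀ := good_minusQ hm2 hab₀
  refine ⟨hodd, hrf, ⟨a₀, b₀, hab₀, ?_⟩, ?_⟩
  · obtain ⟨e2⟩ := cent_minus hm2 hab₀ hab' hj hG' hfix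
    exact ⟨e1.trans e2⟩
  · rw [hcount]
    exact split_one hG' (fun x hx => chi_omega (kapM hab') hx)
      (cover_minus hm2 hab₀ hab' hj hodd hc hG' hfix)

end Cfsg.Agent.H185.MinusField
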