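import Mathlib
import Cfsg.Agent.H903.SylMeet
import Cfsg.Agent.H934.OutB

/-!
# Sylow subgroups of `Aut T` meeting trivially: defining characteristic, abstract form

`U` is a Sylow `p`-subgroup of `T`, `st : Γ →* Aut T` a group of (field) automorphisms normalising `U`, fixing `k`
(with `U ∩ k U k⁻¹ = 1`) and acting freely on `t` (modulo `U`); `|Out T|` divides `m |Γ|` with `m` prime to `p`.
-/

set_option autoImplicit false

namespace Cfsg.Agent.H185.MeetChar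

open Cfsg.Agent.H903.SylMeet

variable {p : ℕ} [Fact p.Prime] {T : Type*} [Group T]

omit [Fact p.Prime] in
theorem conj_mul_aut (x u : T) (δ : MulAut T) :
    MulAut.conj x * (MulAut.conj u * δ) * (MulAut.conj x)⁻¹ = MulAut.conj (x * u * (δ x)⁻¹) * δ := by
  ext t
  simp [MulAut.mul_apply, MulAut.conj_apply, ← map_inv, mul_assoc]

omit [Fact p.Prime] in
theorem aut_mul_conj (u : T) (δ : MulAut T) : δ * MulAut.conj u = MulAut.conj (δ u) * δ := by
  ext t
  simp [MulAut.mul_apply, MulAut.conj_apply]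

/-- the group `Inn(U) D` -/
def PP {Γ : Type*} [Group Γ] (U : Subgroup T) (S : Subgroup Γ) (st : Γ →* MulAut T)
    (hst : ∀ γ, ∀ u ∈ U, st γ u ∈ U) : Subgroup (MulAut T) where
  carrier := {y | ∃ u ∈ U, ∃ γ ∈ S, y = MulAut.conj u * st γ}
  mul_mem' := by
    rintro _ _ ⟨u, hu, γ, hγ, rfl⟩ ⟨u', hu', γ', hγ', rfl⟩
    refine ⟨u * st γ u', mul_mem hu (hst γ _ hu'), γ * γ', mul_mem hγ hγ', ?_⟩
    rw [map_mul, map_mul, mul_assoc, ← mul_assoc (st γ), aut_mul_conj]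
    simp only [mul_assoc]
  one_mem' := ⟨1, one_mem _, 1, one_mem _, by simp⟩
  inv_mem' := by
    rintro _ ⟨u, hu, γ, hγ, rfl⟩
    refine ⟨st γ⁻¹ u⁻¹, hst _ _ (inv_mem hu), γ⁻¹, inv_mem hγ, ?_⟩
    rw [mul_inv_rev, ← map_inv, ← map_inv, aut_mul_conj]

theorem mem_PP {Γ : Type*} [Group Γ] {U : Subgroup T} {S : Subgroup Γ} {st : Γ →* MulAut T}
    {hst : ∀ γ, ∀ u ∈ U, st γ u ∈ U} {y : MulAut T} :
    y ∈ PP U S st hst ↔ ∃ u ∈ U, ∃ γ ∈ S, y = MulAut.conj u * st γ := Iff.rfl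

/-- A `p`-element normalising a Sylow `p`-subgroup `U` lies in `U`. -/
theorem mem_of_normalises [Finite T] {U : Subgroup T} (hU : IsPGroup p U) (hUi : ¬ p ∣ U.index) {g : T} {n : ℕ}
    (hg : g ^ p ^ n = 1) (hn : ∀ u ∈ U, g * u * g⁻¹ ∈ U) : g ∈ U := by
  have hz : IsPGroup p (Subgroup.zpowers g) := by
    obtain ⟨k, -, hk⟩ := (Nat.dvd_prime_pow (Fact.out : p.Prime)).1 (orderOf_dvd_of_pow_eq_one hg)
    exact IsPGroup.of_card (n := k) (by rw [Nat.card_zpowers, hk])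
  have hfin : ∀ u, g * u * g⁻¹ ∈ U → u ∈ U := by
    have h1 : U.map (MulAut.conj g).toMonoidHom ≤ U := by
      rintro _ ⟨u, hu, rfl⟩
      exact hn u hu
    have h2 : U.map (MulAut.conj g).toMonoidHom = U := by
      apply Subgroup.eq_of_le_of_card_ge h1
      rw [Subgroup.card_map_of_injective (MulAut.conj g).injective]
    intro u hu
    rw [← h2] at hu
    obtain ⟨v, hv, e⟩ := hu
    have : v = u := by
      have e' : g * v * g⁻¹ = g * u * g⁻¹ := e
      exact mul_left_cancel (mul_right_cancel e')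
    exact this ▸ hv
  have hnor : Subgroup.zpowers g ≤ Subgroup.normalizer (U : Set T) := by
    rw [Subgroup.zpowers_le, Subgroup.mem_normalizer_iff]
    exact fun u => ⟨hn u, hfin u⟩
  have hsup : IsPGroup p ↥(Subgroup.zpowers g ⊔ U) := hz.to_sup_of_normal_right' hU hnor
  have hmax : Subgroup.zpowers g ⊔ U = U := (hU.toSylow hUi).is_maximal' hsup le_sup_right
  rw [← hmax]
  exact Subgroup.mem_sup_left (Subgroup.mem_zpowers _)

/-- **Defining characteristic, abstract form.** -/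
theorem meet_of_frame [Finite T] [IsSimpleGroup T] (hT : ¬ IsMulCommutative T)
    {U : Subgroup T} (hU : IsPGroup p U) (hUi : ¬ p ∣ U.index)
    {Γ : Type*} [Group Γ] [Finite Γ] (st : Γ →* MulAut T) (hst : ∀ γ, ∀ u ∈ U, st γ u ∈ U)
    {m : ℕ} (hm : ¬ p ∣ m) (hout : Nat.card (Cfsg.Out T) ∣ m * Nat.card Γ)
    (k t : T) (hk : ∀ γ, st γ k = k) (hkU : ∀ u ∈ U, k * u * k⁻¹ ∈ U → u = 1)
    (hopp : ∀ u ∈ U, ∀ γ, t * (k * u * k⁻¹) * (st γ t)⁻¹ ∈ U → u = 1)
    (hreg : ∀ γ, (∃ n, γ ^ p ^ n = 1) → t * (st γ t)⁻¹ ∈ U → γ = 1) : Meet p T := by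
  have hp : p.Prime := Fact.out
  have hinj := conj_injective (T := T) hT
  obtain ⟨S⟩ : Nonempty (Sylow p Γ) := inferInstance
  have hS : ∀ γ ∈ (S : Subgroup Γ), ∃ n, γ ^ p ^ n = 1 := by
    intro γ hγ
    obtain ⟨n, hn⟩ := S.isPGroup' ⟨γ, hγ⟩
    exact ⟨n, by simpa using congrArg Subtype.val hn⟩
  -- `D ∩ Inn T = 1`
  have hDI : ∀ γ ∈ (S : Subgroup Γ), ∀ g : T, MulAut.conj g = st γ → γ = 1 := by
    intro γ hγ g hg
    obtain ⟨n, hn⟩ := hS γ hγ
    have hgn : g ^ p ^ n = 1 := by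
      apply hinj
      rw [map_pow, hg, ← map_pow, hn, map_one, map_one]
    have hgU : g ∈ U := by
      apply mem_of_normalises hU hUi hgn
      intro u hu
      have := hst γ u hu
      rw [← hg] at this
      exact this
    have h1 : g * k * g⁻¹ = k := by
      have := hk γ
      rw [← hg] at this
      exact this
    have h2 : k * g * k⁻¹ = g := by
      rw [mul_inv_eq_iff_eq_mul, ← mul_inv_eq_iff_eq_mul.1 h1]
    have h3 : g = 1 := hkU g hgU (by rw [h2]; exact hgU)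
    have h4 : st γ = 1 := by rw [← hg, h3, map_one]
    exact hreg γ ⟨n, hn⟩ (by rw [h4]; simp)
  have huniq : ∀ u ∈ U, ∀ u' ∈ U, ∀ γ ∈ (S : Subgroup Γ), ∀ γ' ∈ (S : Subgroup Γ), ∀ g : T,
      MulAut.conj g * st γ = MulAut.conj u' * st γ' → γ = γ' ∧ g = u' := by
    intro u _ u' _ γ hγ γ' hγ' g h
    have h1 : MulAut.conj (u'⁻¹ * g) = st (γ' * γ⁻¹) := by
      rw [map_mul, map_mul, map_inv, map_inv, inv_mul_eq_iff_eq_mul, ← mul_assoc, ← h, mul_assoc, mul_inv_cancel,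
        mul_one]
    have h2 := hDI _ (mul_mem hγ' (inv_mem hγ)) _ h1
    have h3 : γ = γ' := (mul_inv_eq_one.1 h2).symm
    refine ⟨h3, ?_⟩
    subst h3
    exact hinj (mul_right_cancel h)
  -- the order of `P`
  have hcard : Nat.card ↥(PP U (S : Subgroup Γ) st hst) = Nat.card U * Nat.card S := by
    rw [← Nat.card_prod]
    symm
    refine Nat.card_congr (Equiv.ofBijective (fun a => ⟨MulAut.conj (a.1 : T) * st (a.2 : Γ),
      ⟨a.1, a.1.2, a.2, a.2.2, rfl⟩⟩) ⟨?_, ?_⟩)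
    · rintro ⟨⟨u, hu⟩, ⟨γ, hγ⟩⟩ ⟨⟨u', hu'⟩, ⟨γ', hγ'⟩⟩ h
      obtain ⟨h1, h2⟩ := huniq u hu u' hu' γ hγ γ' hγ' u (congrArg Subtype.val h)
      subst h1
      subst h2
      rfl
    · rintro ⟨y, u, hu, γ, hγ, rfl⟩
      exact ⟨⟨⟨u, hu⟩, ⟨γ, hγ⟩⟩, rfl⟩
  obtain ⟨a, ha⟩ := hU.exists_card_eq
  obtain ⟨b, hb⟩ := S.isPGroup'.exists_card_eq
  have hPp : IsPGroup p ↥(PP U (S : Subgroup Γ) st hst) := by
    apply IsPGroup.of_card (n := a + b)
    rw [hcard, ha, hb, pow_add]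
  refine meet_of_index (PP U (S : Subgroup Γ) st hst) hPp ?_ ?_
  · intro hdvd
    have h1 := Subgroup.card_mul_index (PP U (S : Subgroup Γ) st hst)
    rw [hcard, ← Cfsg.Agent.H934.OutB.card_out_mul T hT] at h1
    have h2 := U.card_mul_index
    have h3 := (S : Subgroup Γ).card_mul_index
    have h4 : p * (Nat.card U * Nat.card S) ∣ m * (Nat.card S * (S : Subgroup Γ).index) * (Nat.card U * U.index) := by
      rw [h2, h3]
      refine dvd_trans ?_ (mul_dvd_mul_right hout _)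
      rw [← h1, mul_comm p]
      exact mul_dvd_mul_left _ hdvd
    have h5 : m * (Nat.card S * (S : Subgroup Γ).index) * (Nat.card U * U.index) =
        (m * (S : Subgroup Γ).index * U.index) * (Nat.card U * Nat.card S) := by ring
    rw [h5] at h4
    have h6 := Nat.dvd_of_mul_dvd_mul_right (Nat.mul_pos Nat.card_pos Nat.card_pos) h4
    rcases (hp.dvd_mul.1 h6) with h7 | h7
    · rcases (hp.dvd_mul.1 h7) with h8 | h8
      · exact hm h8
      · exact S.not_dvd_index h8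
    · exact hUi h7
  · refine ⟨t * k, ?_⟩
    rintro _ ⟨u, hu, γ, hγ, rfl⟩ h
    rw [conj_mul_aut] at h
    obtain ⟨u', hu', γ', hγ', h'⟩ := h
    obtain ⟨-, h1⟩ := huniq u hu u' hu' γ hγ γ' hγ' _ h'
    have h2 : t * k * u * (st γ (t * k))⁻¹ = t * (k * u * k⁻¹) * (st γ t)⁻¹ := by
      rw [map_mul, hk]
      group
    rw [h2] at h1
    have h3 : u = 1 := hopp u hu γ (by rw [h1]; exact hu')
    subst h3
    have h4 : γ = 1 := by
      apply hreg γ (hS γ hγ)
      have : t * (st γ t)⁻¹ = t * (k * 1 * k⁻¹) * (st γ t)⁻¹ := by group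
      rw [this, h1]
      exact hu'
    rw [h4, map_one, map_one, mul_one]

end Cfsg.Agent.H185.MeetChar
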