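import Cfsg.Agent.H176.NFAbs

/-!
# Solvable `{p, s}`-groups (helper185, S5773)
-/

set_option autoImplicit false

namespace Cfsg.Agent.H185.NFHall

open Cfsg.Agent.Lib.Cores Cfsg.Agent.H176.NF

universe u

theorem exists_hall {G : Type u} [Group G] [Finite G] {M : Subgroup G} (hM : Group.IsSolvable M) {p s : ℕ}
    (hp : p.Prime) (hs : s.Prime) (hps : p ≠ s) : ∃ Y : Subgroup G, Y ≤ M ∧
      Nat.card Y = p ^ (Nat.card M).factorization p * s ^ (Nat.card M).factorization s := by
  set α := (Nat.card M).factorization p with hα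
  set β := (Nat.card M).factorization s with hβ
  have hM0 : Nat.card M ≠ 0 := Nat.card_pos.ne'
  have hm : p ^ α * s ^ β ∣ Nat.card M := Nat.Coprime.mul_dvd_of_dvd_of_dvd
    (Nat.Coprime.pow _ _ ((Nat.coprime_primes hp hs).2 hps)) (Nat.ordProj_dvd _ _) (Nat.ordProj_dvd _ _)
  obtain ⟨n, hn⟩ := hm
  have hn0 : n ≠ 0 := by rintro rfl; exact hM0 (by rw [hn, mul_zero])
  have hf : ∀ l : ℕ, (Nat.card M).factorization l = α * p.factorization l + β * s.factorization l +
      n.factorization l := fun l => by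
    rw [hn, Nat.factorization_mul (mul_ne_zero (pow_ne_zero _ hp.ne_zero) (pow_ne_zero _ hs.ne_zero)) hn0,
      Nat.factorization_mul (pow_ne_zero _ hp.ne_zero) (pow_ne_zero _ hs.ne_zero), Nat.factorization_pow,
      Nat.factorization_pow]
    simp
  have hpn : ¬ p ∣ n := by
    intro h
    have h1 := hf p
    rw [← hα, hp.factorization, hs.factorization, Finsupp.single_eq_same, Finsupp.single_eq_of_ne hps] at h1
    have h2 := (hp.dvd_iff_one_le_factorization hn0).1 h
    omega
  have hsn : ¬ s ∣ n := by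
    intro h
    have h1 := hf s
    rw [← hβ, hp.factorization, hs.factorization, Finsupp.single_eq_same, Finsupp.single_eq_of_ne hps.symm] at h1
    have h2 := (hs.dvd_iff_one_le_factorization hn0).1 h
    omega
  have hcop : (p ^ α * s ^ β).Coprime n := Nat.Coprime.mul_left
    (Nat.Coprime.pow_left _ ((Nat.Prime.coprime_iff_not_dvd hp).2 hpn))
    (Nat.Coprime.pow_left _ ((Nat.Prime.coprime_iff_not_dvd hs).2 hsn))
  obtain ⟨Y, hY, -⟩ := Cfsg.Agent.S0005.result (p ^ α * s ^ β) n hn hcop ⊥ (by simp)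
  refine ⟨Y.map M.subtype, ?_, ?_⟩
  · rintro _ ⟨y, -, rfl⟩
    exact y.2
  · rw [Subgroup.card_map_of_injective (Subgroup.subtype_injective _), hY]

theorem faithful {Y : Type u} [Group Y] [Finite Y] [Group.IsSolvable Y] {p s : ℕ} (hp : p.Prime)
    (hs : s.Prime) (hps : p ≠ s) (hprs : ∀ l : ℕ, l.Prime → l ∣ Nat.card Y → l = p ∨ l = s)
    (hcore : Cfsg.pCore p Y = ⊥) (Q : Subgroup Y) (hQ : IsPGroup p Q) :
    ∀ y ∈ Q, (∀ a ∈ Cfsg.pCore s Y, y * a = a * y) → y = 1 := by
  have := Fact.mk hp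
  have := Fact.mk hs
  have hF : Cfsg.fittingSubgroup Y ≤ Cfsg.pCore s Y := by
    rw [fittingSubgroup_eq_iSup_pCore]
    refine iSup_le fun t => ?_
    have := Fact.mk t.2
    by_cases hts : (t : ℕ) = s
    · rw [hts]
    · by_cases htp : (t : ℕ) = p
      · rw [htp, hcore]; exact bot_le
      · have h1 := (pCore_isPGroup (G := Y) (t : ℕ)).card_eq_or_dvd
        rcases h1 with h1 | h1
        · rw [Subgroup.card_eq_one.1 h1]; exact bot_le
        · rcases hprs t t.2 (h1.trans (Subgroup.card_subgroup_dvd_card _)) with h | h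
          · exact absurd h htp
          · exact absurd h hts
  have hC : Subgroup.centralizer (Cfsg.pCore s Y : Set Y) ≤ Cfsg.pCore s Y := by
    refine le_trans ?_ (le_trans (Cfsg.Agent.S0044.result (G := Y)) hF)
    exact Subgroup.centralizer_le hF
  intro y hy hya
  have h1 : y ∈ Cfsg.pCore s Y := hC (by
    rw [Subgroup.mem_centralizer_iff]
    exact fun a ha => (hya a ha).symm)
  have h2 := (IsPGroup.disjoint_of_ne (G := Y) p s hps _ _ hQ (pCore_isPGroup s))
  exact Subgroup.disjoint_def.1 h2 hy h1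

end Cfsg.Agent.H185.NFHall
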