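import Cfsg.Agent.H585.SuTD4
import Cfsg.Agent.H35.Poin
import Cfsg.Agent.S1106
import Cfsg.Agent.S1067

/-!
# Maximal parabolic subgroups of `³D₄(q)` (helper185, S5773)
-/

set_option autoImplicit false
set_option linter.unusedSectionVars false

namespace Cfsg.Agent.H185.NFTd

open CoxeterSystem Cfsg Cfsg.Lie Cfsg.Agent.ChevalleyStructure Cfsg.Agent.ChevalleyStructure.CoxeterGeom
  Cfsg.Agent.ChevalleyStructure.CoxeterGeomTypes
  Cfsg.Agent.Tits.Roots Cfsg.Agent.Tits.Core Cfsg.Agent.Nodes.Reps Cfsg.Agent.Nodes.BNOf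
  Cfsg.Agent.Nodes.RGDChev
  Cfsg.Agent.Nodes.StabComb Cfsg.Agent.Nodes.Bruhat Cfsg.Agent.Nodes.LeviDec
  Cfsg.Agent.ParSys.RootCount Cfsg.Agent.ParSys.RootExc
open Cfsg.Agent.Nodes.RGDFold hiding refl
open Cfsg.Agent.KFacts.RgdCharP Cfsg.Agent.H585.SuOwn
open Cfsg.Agent.H35.Poin hiding PJ_empty
open Cfsg.Agent.Nodes.RGDTwD4 Cfsg.Agent.ClosedExc.TwD4

/-- **Subgroups with a nontrivial normal `p`-subgroup.** -/
theorem card_dvd_par {K : Type} [Field K] [Fintype K] {q : ℕ} (hq : IsPrimePow q) (hK : Fintype.card K = q ^ 3)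
    (p : ℕ) [CharP K p] (P : Subgroup ↥(twistedD4 K q)) (hP : IsPGroup p P) (hP1 : P ≠ ⊥)
    (Y : Subgroup ↥(twistedD4 K q)) (hY : Y ≤ Subgroup.normalizer (P : Set ↥(twistedD4 K q))) :
    ∃ m, Nat.card Y ∣ p ^ m * ((q - 1) ^ 2 * (q ^ 2 + q + 1) * (q ^ 3 + 1)) := by
  obtain ⟨φ, hφ⟩ := D4Fixed.exists_frob hq hK
  have hle := D4Fixed.twisted_le_fix hK hφ
  have hfp : Fact p.Prime := ⟨CharP.char_is_prime K p⟩
  let cs := CoxeterMatrix.G₂.toCoxeterSystem
  have hW : Finite CoxeterMatrix.G₂.Group := Cfsg.Agent.Nodes.RGDFold.finite_W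
    (hp := Cfsg.Agent.Nodes.RGDTwD4.hp) cs isCartan foldData
  have R := rgd cs hK hφ p
  have c0 := card_X0 hφ hle hq.two_le hK
  have c1 := card_X1 (K := K) hφ hle
  rw [hK] at c1
  have hBT : KFacts.RgdCharP.BT cs isCartan p _ (X φ q) :=
    fun K' hK' hK1 => KFacts.RgdFilt.borel_tits_of_filt
      (KFacts.RgdFiltTwAll.filt_fold cs isCartan foldData (foldGrp hφ hle) p) (G1_eq_top cs hK hφ) hK' hK1
  obtain ⟨m, hm⟩ := IsPGroup.iff_card.1 R.isPGroup_Upos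
  have hT : Nat.card ↥(T K q) = (q - 1) ^ 2 * (q ^ 2 + q + 1) := by
    rw [← Cfsg.Agent.S1106.result hq hK]
    exact Nat.card_congr (Subgroup.subgroupOfEquivOfLe inf_le_right).toEquiv
  have hPJ : ∀ j : Fin 2, Nat.card ↥(PJ cs isCartan (T K q) (X φ q) {j}) =
      (1 + Nat.card (X φ q (sr j))) * (p ^ m * ((q - 1) ^ 2 * (q ^ 2 + q + 1))) := by
    intro j
    rw [card_PJ_path R (J := {j}) (c := fun _ => j) (m := 1) (y := Nat.card (X φ q (sr j)))
      ⟨fun t ht => rfl, fun t ht => by omega, fun s t h1 h2 => by omega, fun i hi h1 => by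
        exact absurd (Set.mem_singleton_iff.1 hi).symm (h1 0 (by norm_num)), fun s hs t ht _ => by omega⟩
      (fun t _ => rfl)]
    have h1 : ({j} : Set (Fin 2)) \ {i | ∃ t < 1, (fun _ : ℕ => j) t = i} = ∅ := by
      ext i
      simp only [Set.mem_sdiff, Set.mem_singleton_iff, Set.mem_ofPred_eq, Set.mem_empty_iff_false, iff_false,
        not_and, not_not]
      rintro rfl
      exact ⟨0, by norm_num, rfl⟩
    rw [h1, Cfsg.Agent.H35.Poin.PJ_empty, card_B' R, hm, hT]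
    simp [Finset.sum_range_succ]
  obtain ⟨g, J, hJ, hKV, hNP⟩ := hBT P hP hP1
  obtain ⟨i, hi⟩ := (Set.ne_univ_iff_exists_notMem _).1 hJ
  have hJi : J ⊆ {i}ᶜ := fun j hj => by
    rw [Set.mem_compl_iff, Set.mem_singleton_iff]
    rintro rfl
    exact hi hj
  have h1 : Y ≤ cj g (PJ cs isCartan (T K q) (X φ q) {i}ᶜ) := hY.trans (hNP.trans (cj_mono g (PJ_mono hJi)))
  have h2 := Subgroup.card_dvd_of_le h1
  rw [Cfsg.Agent.Nodes.CardSup.card_cj] at h2
  have hcompl : ∃ j : Fin 2, ({i}ᶜ : Set (Fin 2)) = {j} := by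
    fin_cases i
    · refine ⟨1, ?_⟩
      ext k
      fin_cases k <;> simp
    · refine ⟨0, ?_⟩
      ext k
      fin_cases k <;> simp
  obtain ⟨j, hj⟩ := hcompl
  rw [hj, hPJ j] at h2
  refine ⟨m, h2.trans ?_⟩
  have h3 : 1 + Nat.card (X φ q (sr j)) ∣ q ^ 3 + 1 := by
    fin_cases j
    · show 1 + Nat.card (X φ q (sr 0)) ∣ _
      rw [c0]
      have : (q : ℕ) ^ 3 + 1 = (1 + q) * (q * q - q + 1) := by
        have h4 : q ≤ q * q := Nat.le_mul_self q
        zify [h4]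
        ring
      rw [this]
      exact dvd_mul_right _ _
    · show 1 + Nat.card (X φ q (sr 1)) ∣ _
      rw [c1, add_comm]
  rw [mul_comm, mul_assoc]
  exact mul_dvd_mul_left _ (mul_dvd_mul_left _ h3)

end Cfsg.Agent.H185.NFTd
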