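import Cfsg.Agent.H185.MeetTw
import Cfsg.Agent.H68.MeetBase
import Cfsg.Agent.H233.B3.Row2

/-!
# Exceptional groups in defining characteristic: `Meet 3`, `Meet p` for `²E₆(q)`, `³D₄(q)` (all `p`), `Row3 2`

* `char3_chev`, `char3_2E6`, `char3_3D4` : `Meet 3` in characteristic 3 (S2484);
* `meet_2E6`, `meet_3D4` : `Meet p` in every characteristic `p`;
* `row2_2E6`, `row2_3D4` : `Row3 2` in characteristic 2 (S5761).
-/

set_option autoImplicit false
set_option linter.unusedSectionVars false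
set_option maxHeartbeats 400000

namespace Cfsg.Agent.H185.MeetAll

open CoxeterSystem Cfsg.Agent.ChevalleyStructure.CoxeterGeom Cfsg.Agent.Tits.Roots Cfsg.Agent.Tits.Core
  Cfsg.Agent.Tits.Exchange Cfsg.Agent.Nodes.Reps Cfsg.Agent.Nodes.BNOf Cfsg.Agent.Nodes.StabComb
  Cfsg.Agent.Nodes.Bruhat Cfsg.Agent.Nodes.OppDec Cfsg.Agent.Nodes.RGDTwGen Cfsg.Agent.Nodes.RGDChev
  Cfsg.Agent.Nodes.RGDFold Cfsg.Agent.Nodes.RGDFoldSL
open Cfsg.Agent.KFacts.RgdOpp Cfsg.Agent.KFacts.RgdAut Cfsg.Agent.KFacts.RgdDiag Cfsg.Agent.KFacts.RgdRigid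
  Cfsg.Agent.KFacts.RgdField Cfsg.Agent.KFacts.RgdTau Cfsg.Agent.KFacts.RgdNodes
open Cfsg.Lie Cfsg.Agent.ChevalleyStructure Cfsg.Agent.ChevalleyStructure.Elts Cfsg.Agent.ChevStructure.FieldMap
open Cfsg.Agent.ChevalleyStructure.SL2Hom (up lo)
open Cfsg.Agent.CpAut.RgdTwStd
open Cfsg.Agent.H903.SylMeet Cfsg.Agent.H185.MeetTw

/-- `3`, `q` a power of `3` and `q ± 1` -/
theorem gcd_three {f : ℕ} (hf : 0 < f) : Nat.gcd 3 (3 ^ f - 1) = 1 ∧ Nat.gcd 3 (3 ^ f + 1) = 1 := by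
  obtain ⟨n, rfl⟩ : ∃ n, f = n + 1 := ⟨f - 1, by omega⟩
  have h1 : 1 ≤ 3 ^ n := Nat.one_le_pow _ _ (by norm_num)
  constructor
  · refine ((Nat.Prime.coprime_iff_not_dvd Nat.prime_three).2 fun h => ?_)
    rw [pow_succ] at h
    omega
  · refine ((Nat.Prime.coprime_iff_not_dvd Nat.prime_three).2 fun h => ?_)
    rw [pow_succ] at h
    omega

/-- **`G₂, F₄, E₆, E₇, E₈` in characteristic 3.** -/
theorem char3_chev (D : ChevalleyDatum) (hD : D ∈ [chevG2, chevF4, chevE6, chevE7, chevE8])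
    {F : Type} [Field F] [Fintype F] [CharP F 3] : Meet 3 ↥(D.group F) := by
  have hpf : Fact (Nat.Prime 3) := ⟨Nat.prime_three⟩
  obtain ⟨f, -, hF⟩ := FiniteField.card F 3
  have hf : 1 ≤ (f : ℕ) := f.pos
  have hRA : Nat.card (RingAut F) = f := Cfsg.Agent.Lib.FieldAutCard.card_ringAut hf hF
  have hpf : 3 ≤ 3 ^ (f : ℕ) := Nat.le_self_pow (by omega) 3
  have hmem : D ∈ [chevG2, chevB2, chevD4, chevF4, chevE6, chevE7, chevE8] := by
    simp only [List.mem_cons, List.not_mem_nil, or_false] at hD ⊢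
    tauto
  obtain ⟨hs, hna⟩ := Cfsg.Agent.S2155.simple (F := F) D hmem (fun _ => by rw [hF]; omega)
  simp only [List.mem_cons, List.not_mem_nil, or_false] at hD
  rcases hD with rfl | rfl | rfl | rfl | rfl
  · refine MeetChev.meet_chev hmem hna (m := 2) (by norm_num) ?_ (i := 0) (s := 3)
      (by decide +kernel) (by decide +kernel) (by decide +kernel)
    rw [Cfsg.Agent.S2121.result 3 f hF (by omega), if_pos rfl, hRA]
  · refine MeetChev.meet_chev hmem hna (m := 1) (by norm_num) ?_ (i := 0) (s := 7)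
      (by decide +kernel) (by decide +kernel) (by decide +kernel)
    have h2 : Nat.gcd 2 3 = 1 := rfl
    rw [Cfsg.Agent.S2122.result 3 f hF, hRA, h2]
  · refine MeetChev.meet_chev hmem hna (m := 2) (by norm_num) ?_ (i := 0) (s := 16)
      (by decide +kernel) (by decide +kernel) (by decide +kernel)
    rw [Cfsg.Agent.S2123.result 3 f hF, hRA, (gcd_three f.pos).1, mul_one]
  · refine MeetChev.meet_chev hmem hna (m := 2) (by norm_num) ?_ (i := 0) (s := 1)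
      (by decide +kernel) (by decide +kernel) (by decide +kernel)
    rw [Cfsg.Agent.S2124.result 3 f hF, hRA]
    exact mul_dvd_mul_right (Nat.gcd_dvd_left 2 _) _
  · refine MeetChev.meet_chev hmem hna (m := 1) (by norm_num) ?_ (i := 0) (s := 14)
      (by decide +kernel) (by decide +kernel) (by decide +kernel)
    rw [Cfsg.Agent.S2125.result 3 f hF, hRA, one_mul]

/-! ### `²E₆` -/

section E6

open Cfsg.Agent.KFacts.TwESix.NodeCoord Cfsg.Agent.KFacts.TwESix.Out Cfsg.Agent.KFacts.TwESix.OutTwo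
open Cfsg.Agent.Nodes.RGDTwE6 Cfsg.Agent.Nodes.RGDTwNode.E6
open Cfsg.Agent.ChevalleyStructure.TwE6Basic (hE6 exists_frob)
open Cfsg.Agent.CpAut.RgdTwE6 (st rs st_n ntau_st)

/-- **`²E₆(q)` in characteristic `p`.** -/
theorem meet_2E6 {K : Type} [Field K] [Fintype K] (q : ℕ) (hq : IsPrimePow q) (hK : Fintype.card K = q ^ 2)
    {p : ℕ} [Fact p.Prime] (hpq : p ∣ q) : Meet p ↥(twistedE6 K q) := by
  have hpp : p.Prime := Fact.out
  obtain ⟨φ, hφ, hqq⟩ := exists_frob hq hK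
  obtain ⟨p', f, hp', hf, hpf⟩ := (isPrimePow_nat_iff _).1 hq
  have hpq0 := hpq
  obtain rfl : p = p' := by
    rw [← hpf] at hpq
    exact (Nat.prime_dvd_prime_iff_eq hpp hp').1 (hpp.dvd_of_dvd_pow hpq)
  have hKp : Fintype.card K = p ^ (2 * f) := by rw [hK, ← hpf, ← pow_mul, mul_comm]
  have hchar : CharP K p := by
    obtain ⟨c, hc⟩ := CharP.exists K
    have : c = p := Cfsg.Agent.FixBN.TwESixSplit.char_eq (K := K) hpp hKp
    exact this ▸ hc
  have hW : Finite CoxeterMatrix.F₄.Group :=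
    Cfsg.Agent.Nodes.RGDFold.finite_W (hp := Cfsg.Agent.Nodes.RGDTwE6.hp) CoxeterMatrix.F₄.toCoxeterSystem
      Cfsg.Agent.Nodes.RGDTwE6.isCartan Cfsg.Agent.Nodes.RGDTwE6.foldData
  obtain ⟨cs, -⟩ : ∃ cs : CoxeterSystem CoxeterMatrix.F₄ CoxeterMatrix.F₄.Group, cs = cs :=
    ⟨CoxeterMatrix.F₄.toCoxeterSystem, rfl⟩
  have R := Cfsg.Agent.Nodes.RGDTwE6.rgd cs hφ hqq p
  have hG1 := G1_top cs hφ hqq
  obtain ⟨hs, hna⟩ := Cfsg.Agent.S1070.result hq hK
  have hout := Cfsg.Agent.S2130.result (K := K) p f hKp hf.nat_succ_le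
  rw [hpf] at hout
  have hRA : Nat.card (K ≃+* K) = 2 * f :=
    Cfsg.Agent.Lib.FieldAutCard.card_ringAut (by omega) hKp
  have hfinR : Finite (K ≃+* K) := Finite.of_injective (fun σ : K ≃+* K => (σ : K → K)) DFunLike.coe_injective
  obtain ⟨t, ht, hfree⟩ := exists_free (coordE hφ hqq 2)
  refine MeetRgd.meet_rgd R hna (GG_eq_top (T := T K q) hG1) (stE q)
    (fun τ => (ntau_st hφ hqq τ cs p).diag) (fun τ i => st_n hφ τ i) (m := Nat.gcd 3 (q + 1)) ?_ ?_ t ht ?_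
  · intro h
    have h1 : p = 3 := (Nat.prime_dvd_prime_iff_eq hpp Nat.prime_three).1 (h.trans (Nat.gcd_dvd_left _ _))
    have h2 := h.trans (Nat.gcd_dvd_right _ _)
    have h3 : p ∣ 1 := (Nat.dvd_add_right hpq0).1 h2
    rw [h1] at h3
    exact absurd h3 (by norm_num)
  · rw [hout, hRA]
    exact dvd_of_eq (by ring)
  · intro τ _ h
    have h1 := (ntau_st hφ hqq τ cs p).char 2 t ht
    have h2 : st q τ t = t := h
    rw [h2] at h1
    have h3 := hfree _ h1.symm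
    ext a
    have h4 : a ∈ KF φ 2 := by
      have := F2_eq_top hφ hqq
      show a ∈ Fx φ 2
      rw [this]
      exact Subfield.mem_top a
    have h5 := congrArg (fun f : KF φ 2 ≃+* KF φ 2 => ((f ⟨a, h4⟩ : KF φ 2) : K)) h3
    exact h5

end E6

/-! ### `³D₄` -/

section D4

open Cfsg.Agent.KFacts.TwDFour.Out
open Cfsg.Agent.Nodes.RGDTwD4 Cfsg.Agent.Nodes.RGDTwNode.D4
open Cfsg.Agent.ChevalleyStructure (D4Fixed.exists_frob)
open Cfsg.Agent.H69.OutTwD4 (st rs st_n ntau_st)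

/-- **`³D₄(q)` in characteristic `p`.** -/
theorem meet_3D4 {K : Type} [Field K] [Fintype K] (q : ℕ) (hq : IsPrimePow q) (hK : Fintype.card K = q ^ 3)
    {p : ℕ} [Fact p.Prime] (hpq : p ∣ q) : Meet p ↥(twistedD4 K q) := by
  have hpp : p.Prime := Fact.out
  obtain ⟨φ, hφ⟩ := Cfsg.Agent.ChevalleyStructure.D4Fixed.exists_frob hq hK
  obtain ⟨p', f, hp', hf, hpf⟩ := (isPrimePow_nat_iff _).1 hq
  obtain rfl : p = p' := by
    rw [← hpf] at hpq
    exact (Nat.prime_dvd_prime_iff_eq hpp hp').1 (hpp.dvd_of_dvd_pow hpq)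
  have hKp : Fintype.card K = p ^ (3 * f) := by rw [hK, ← hpf, ← pow_mul, mul_comm]
  have hchar : CharP K p := by
    obtain ⟨c, hc⟩ := CharP.exists K
    have : c = p := Cfsg.Agent.FixBN.TwESixSplit.char_eq (K := K) hpp hKp
    exact this ▸ hc
  obtain ⟨cs, -⟩ : ∃ cs : CoxeterSystem CoxeterMatrix.G₂ CoxeterMatrix.G₂.Group, cs = cs :=
    ⟨CoxeterMatrix.G₂.toCoxeterSystem, rfl⟩
  have hW : Finite CoxeterMatrix.G₂.Group := finiteW cs
  have R := Cfsg.Agent.Nodes.RGDTwD4.rgd cs hK hφ p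
  have hG1 : RGD.Sup (X φ q) {x | IsRoot cs isCartan x} = ⊤ := G1_eq_top cs hK hφ
  obtain ⟨hs, hna⟩ := Cfsg.Agent.S1071.result hq hK
  have hout := Cfsg.Agent.S2129.result (K := K) p f hKp hf.nat_succ_le
  rw [hpf] at hout
  have hRA : Nat.card (K ≃+* K) = 3 * f :=
    Cfsg.Agent.Lib.FieldAutCard.card_ringAut (by omega) hKp
  have hfinR : Finite (K ≃+* K) := Finite.of_injective (fun σ : K ≃+* K => (σ : K → K)) DFunLike.coe_injective
  obtain ⟨t, ht, hfree⟩ := exists_free (coordD hφ hK 1)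
  refine MeetRgd.meet_rgd R hna (GG_eq_top (T := T K q) hG1) (stD q)
    (fun τ => (ntau_st hφ hK τ cs p).diag) (fun τ i => st_n hφ τ i) (m := 1)
    (fun h => hpp.one_lt.ne' (Nat.dvd_one.1 h)) ?_ t ht ?_
  · rw [hout, hRA, one_mul]
  · intro τ _ h
    have h1 := (ntau_st hφ hK τ cs p).char 1 t ht
    have h2 : st q τ t = t := h
    rw [h2] at h1
    have h3 := hfree _ h1.symm
    ext a
    have h4 : a ∈ KD φ 1 := by
      rw [F3_eq_top hK hφ]
      exact Subfield.mem_top a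
    have h5 := congrArg (fun f : KD φ 1 ≃+* KD φ 1 => ((f ⟨a, h4⟩ : KD φ 1) : K)) h3
    exact h5

end D4

/-- `²E₆(q)`, `q` a power of 3 -/
theorem char3_2E6 {K : Type} [Field K] [Fintype K] (q : ℕ) (hq : IsPrimePow q) (hK : Fintype.card K = q ^ 2)
    (hpq : 3 ∣ q) : Meet 3 ↥(twistedE6 K q) := by
  have : Fact (Nat.Prime 3) := ⟨Nat.prime_three⟩
  exact meet_2E6 q hq hK hpq

/-- `³D₄(q)`, `q` a power of 3 -/
theorem char3_3D4 {K : Type} [Field K] [Fintype K] (q : ℕ) (hq : IsPrimePow q) (hK : Fintype.card K = q ^ 3)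
    (hpq : 3 ∣ q) : Meet 3 ↥(twistedD4 K q) := by
  have : Fact (Nat.Prime 3) := ⟨Nat.prime_three⟩
  exact meet_3D4 q hq hK hpq

/-- **`Row3 2` for `²E₆(q)`, `q` even.** -/
theorem row2_2E6 {K : Type} [Field K] [Fintype K] (q : ℕ) (hq : IsPrimePow q) (hK : Fintype.card K = q ^ 2)
    (hpq : 2 ∣ q) : Cfsg.Agent.H233.B3.Row3 2 ↥(twistedE6 K q) := by
  have : Fact (Nat.Prime 2) := ⟨Nat.prime_two⟩
  obtain ⟨hs, hna⟩ := Cfsg.Agent.S1070.result hq hK
  exact Cfsg.Agent.H233.B3.row3_of_meet hna (meet_2E6 q hq hK hpq)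

/-- **`Row3 2` for `³D₄(q)`, `q` even.** -/
theorem row2_3D4 {K : Type} [Field K] [Fintype K] (q : ℕ) (hq : IsPrimePow q) (hK : Fintype.card K = q ^ 3)
    (hpq : 2 ∣ q) : Cfsg.Agent.H233.B3.Row3 2 ↥(twistedD4 K q) := by
  have : Fact (Nat.Prime 2) := ⟨Nat.prime_two⟩
  obtain ⟨hs, hna⟩ := Cfsg.Agent.S1071.result hq hK
  exact Cfsg.Agent.H233.B3.row3_of_meet hna (meet_3D4 q hq hK hpq)

end Cfsg.Agent.H185.MeetAll
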