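import Cfsg.Agent.H185.MeetChar
import Cfsg.Agent.H70.ChevField
import Cfsg.Agent.H79.FieldAuts
import Cfsg.Agent.Lib.FieldAutCard
import Cfsg.Agent.S1036
import Cfsg.Agent.S2326
import Cfsg.Agent.S2121
import Cfsg.Agent.S2122
import Cfsg.Agent.S2123
import Cfsg.Agent.S2124
import Cfsg.Agent.S2125
import Cfsg.Agent.S2155

/-!
# Chevalley groups `G₂, F₄, E₆, E₇, E₈` in defining characteristic `p ≥ 5`: `Meet p`
-/

set_option autoImplicit false

namespace Cfsg.Agent.H185.MeetChev

open scoped Pointwise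
open Cfsg Cfsg.Lie Cfsg.Agent.ChevalleyStructure Cfsg.Agent.ChevalleyStructure.Elts
  Cfsg.Agent.ChevalleyStructure.BNChev Cfsg.Agent.Schreier.ChevLocal
  Cfsg.Agent.S1042 Cfsg.Agent.H70.AutFix Cfsg.Agent.H70.ChevTab Cfsg.Agent.H70.ChevFix Cfsg.Agent.H70.ChevField
open Cfsg.Agent.H79.FieldAuts (fieldHom fieldHom_xS)
open Cfsg.Agent.H903.SylMeet

universe u

variable {D : ChevalleyDatum} (hD : InList D) {F : Type u} [Field F]

theorem st_xe (σ : RingAut F) {r : ℕ} (hr : r < D.nroots) (t : F) :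
    fieldHom hD F σ (xe hD r t) = xe hD r (σ t) := fieldHom_xS hD σ hr t

theorem st_UU (σ : RingAut F) : ∀ u ∈ UU D F, fieldHom hD F σ u ∈ UU D F := by
  have h : D.posUnipotent F ≤ ((UU D F).comap (fieldHom hD F σ).toMonoidHom).map (D.group F).subtype := by
    rw [posUnipotent_le_iff hD]
    intro r hr t
    refine ⟨xe hD r t, ?_, rfl⟩
    show fieldHom hD F σ (xe hD r t) ∈ UU D F
    rw [st_xe hD σ hr.1 t]
    exact xG_mem_posUnipotent hD hr _
  intro u hu
  obtain ⟨v, hv, e⟩ := h hu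
  have h1 : v = u := Subtype.ext e
  exact h1 ▸ hv

theorem st_ne (σ : RingAut F) {i : ℕ} (hi : i < D.rank) (t : F) :
    fieldHom hD F σ (ne hD (D.simple i) t) = ne hD (D.simple i) (σ t) := by
  rw [ne_def, ne_def, map_mul, map_mul, st_xe hD σ (simple_lt hD hi), st_xe hD σ (neg_simple_lt hD hi), map_neg,
    map_inv₀]

theorem st_he (σ : RingAut F) {i : ℕ} (hi : i < D.rank) (t : F) :
    fieldHom hD F σ (he hD (D.simple i) t) = he hD (D.simple i) (σ t) := by
  rw [he_eq, he_eq, map_mul, map_inv, st_ne hD σ hi, st_ne hD σ hi, map_one]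

/-- the longest element is fixed by the field automorphisms -/
theorem st_longest (hinj : Function.Injective (MulAut.conj : ↥(D.group F) →* MulAut ↥(D.group F)))
    {n : GL D.Idx F} {a : ℕ → ℕ} (L : Longest hD F n a) (σ : RingAut F) :
    fieldHom hD F σ ⟨n, monomial_le_group hD F L.mem⟩ = ⟨n, monomial_le_group hD F L.mem⟩ := by
  set nE : ↥(D.group F) := ⟨n, monomial_le_group hD F L.mem⟩ with hnE
  have key : ∀ s < D.nroots, ∀ t : F,
      fieldHom hD F σ nE * xe hD s t * (fieldHom hD F σ nE)⁻¹ = nE * xe hD s t * nE⁻¹ := by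
    intro s hs t
    obtain ⟨η, hη, h⟩ := L.conj s hs
    have h' : ∀ t, nE * xe hD s t * nE⁻¹ = xe hD (a s) (η * t) := fun t => Subtype.ext (h t)
    have h1 := congrArg (fieldHom hD F σ) (h' (σ.symm t))
    have hση : σ η = η := by
      rcases hη with rfl | rfl
      · exact map_one σ
      · rw [map_neg, map_one]
    rw [map_mul, map_mul, map_inv, st_xe hD σ hs, st_xe hD σ (L.lt s hs), map_mul, hση,
      RingEquiv.apply_symm_apply] at h1
    rw [h1, h']
  have hc : MulAut.conj (nE⁻¹ * fieldHom hD F σ nE) = 1 := by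
    apply Cfsg.Agent.H79.SimpleGen.equiv_ext hD
    · intro i hi t
      have h1 := key _ (simple_lt hD hi) t
      show nE⁻¹ * fieldHom hD F σ nE * xe hD (D.simple i) t * (nE⁻¹ * fieldHom hD F σ nE)⁻¹ = xe hD (D.simple i) t
      calc nE⁻¹ * fieldHom hD F σ nE * xe hD (D.simple i) t * (nE⁻¹ * fieldHom hD F σ nE)⁻¹
          = nE⁻¹ * (fieldHom hD F σ nE * xe hD (D.simple i) t * (fieldHom hD F σ nE)⁻¹) * nE := by group
        _ = _ := by rw [h1]; group
    · intro i hi t
      have h1 := key _ (neg_simple_lt hD hi) t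
      show nE⁻¹ * fieldHom hD F σ nE * xe hD (D.neg (D.simple i)) t * (nE⁻¹ * fieldHom hD F σ nE)⁻¹ =
        xe hD (D.neg (D.simple i)) t
      calc nE⁻¹ * fieldHom hD F σ nE * xe hD (D.neg (D.simple i)) t * (nE⁻¹ * fieldHom hD F σ nE)⁻¹
          = nE⁻¹ * (fieldHom hD F σ nE * xe hD (D.neg (D.simple i)) t * (fieldHom hD F σ nE)⁻¹) * nE := by group
        _ = _ := by rw [h1]; group
  have h2 := hinj (hc.trans (map_one _).symm)
  exact (inv_mul_eq_one.1 h2).symm

include hD in
/-- **Chevalley groups in characteristic `p`.** -/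
theorem meet_chev [Finite F] {p : ℕ} [Fact p.Prime] [CharP F p] [IsSimpleGroup ↥(D.group F)]
    (hT : ¬ IsMulCommutative ↥(D.group F)) {m : ℕ} (hm : ¬ p ∣ m)
    (hout : Nat.card (Cfsg.Out ↥(D.group F)) ∣ m * Nat.card (RingAut F))
    {i s : ℕ} (hi : i < D.rank) (hs : s < D.nroots) (his : D.cartan i s = 1) : Meet p ↥(D.group F) := by
  have := Fintype.ofFinite F
  have hfinG : Finite ↥(D.group F) := inferInstance
  have hfinR : Finite (RingAut F) := Finite.of_injective (fun σ : RingAut F => (σ : F → F)) DFunLike.coe_injective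
  have hinj := conj_injective (T := ↥(D.group F)) hT
  obtain ⟨n, a, L⟩ := exists_longest hD F
  set nE : ↥(D.group F) := ⟨n, monomial_le_group hD F L.mem⟩ with hnE
  obtain ⟨S, hS⟩ := Cfsg.Agent.S2326.result (F := F) p D hD
  have hUp : IsPGroup p ↥(UU D F) := by
    have h1 := S.isPGroup'
    rw [hS] at h1
    exact h1
  have hUi : ¬ p ∣ (UU D F).index := by
    have h1 := S.not_dvd_index
    rw [hS] at h1
    exact h1
  obtain ⟨c, hc⟩ := IsCyclic.exists_generator (α := Fˣ)
  have hnV : ∀ u ∈ UU D F, ((nE * u * nE⁻¹ : ↥(D.group F)) : GL D.Idx F) ∈ D.negUnipotent F := by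
    have h1 : D.posUnipotent F ≤ (D.negUnipotent F).comap (MulAut.conj n).toMonoidHom := by
      rw [posUnipotent_le_iff hD]
      intro r hr t
      obtain ⟨η, -, h⟩ := L.conj r hr.1
      show n * xG hD r t * n⁻¹ ∈ D.negUnipotent F
      rw [h]
      exact xG_mem_negUnipotent hD (L.pos r hr) _
    intro u hu
    exact h1 hu
  have hone : ∀ u ∈ UU D F, ((nE * u * nE⁻¹ : ↥(D.group F)) : GL D.Idx F) ∈ D.borelSubgroup F → u = 1 := by
    intro u hu h
    have h1 : nE * u * nE⁻¹ = 1 := Subtype.ext (one_of_mem_borel_of_mem_neg h (hnV u hu) hD)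
    have h2 : nE * u * nE⁻¹ = nE * 1 * nE⁻¹ := by rw [h1]; group
    exact mul_left_cancel (mul_right_cancel h2)
  set t : ↥(D.group F) := he hD (D.simple i) (c : F) with ht
  have htH : ∀ σ : RingAut F, ((fieldHom hD F σ t : ↥(D.group F)) : GL D.Idx F) ∈ D.diagonalSubgroup F := by
    intro σ
    rw [ht, st_he hD σ hi]
    refine he_mem_HH hD (simple_lt hD hi) ?_
    rw [Ne, map_eq_zero]
    exact c.ne_zero
  have htH1 : (t : GL D.Idx F) ∈ D.diagonalSubgroup F := he_mem_HH hD (simple_lt hD hi) c.ne_zero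
  refine MeetChar.meet_of_frame hT hUp hUi (fieldHom hD F) (st_UU hD) hm hout nE t
    (fun σ => st_longest hD hinj L σ) ?_ ?_ ?_
  · intro u hu h
    exact hone u hu (Subgroup.mem_sup_left h)
  · intro u hu σ h
    apply hone u hu
    have h1 : ((t * (nE * u * nE⁻¹) * (fieldHom hD F σ t)⁻¹ : ↥(D.group F)) : GL D.Idx F) ∈ D.posUnipotent F := h
    have h2 : ((nE * u * nE⁻¹ : ↥(D.group F)) : GL D.Idx F) =
        (t : GL D.Idx F)⁻¹ * ((t * (nE * u * nE⁻¹) * (fieldHom hD F σ t)⁻¹ : ↥(D.group F)) : GL D.Idx F) *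
          ((fieldHom hD F σ t : ↥(D.group F)) : GL D.Idx F) := by
      simp only [Subgroup.coe_mul, Subgroup.coe_inv]
      group
    rw [h2]
    exact mul_mem (mul_mem (Subgroup.mem_sup_right (inv_mem htH1)) (Subgroup.mem_sup_left h1))
      (Subgroup.mem_sup_right (htH σ))
  · intro σ _ h
    have h1 : (t * (fieldHom hD F σ t)⁻¹ : ↥(D.group F)) = 1 := by
      apply Subtype.ext
      have h2 : ((t * (fieldHom hD F σ t)⁻¹ : ↥(D.group F)) : GL D.Idx F) ∈
          D.posUnipotent F ⊓ D.diagonalSubgroup F := by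
        refine Subgroup.mem_inf.2 ⟨h, ?_⟩
        rw [Subgroup.coe_mul, Subgroup.coe_inv]
        exact mul_mem htH1 (inv_mem (htH σ))
      rw [(Cfsg.Agent.S1036.result (F := F) D hD).2, Subgroup.mem_bot] at h2
      exact h2
    have h3 : t = fieldHom hD F σ t := mul_inv_eq_one.1 h1
    rw [ht, st_he hD σ hi] at h3
    have hσc : σ (c : F) ≠ 0 := by
      rw [Ne, map_eq_zero]
      exact c.ne_zero
    have h4 := he_conj hD hi hs c.ne_zero (1 : F)
    rw [h3, he_conj hD hi hs hσc, his, zpow_one, zpow_one, mul_one, mul_one] at h4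
    have h5 : σ (c : F) = c := xe_inj hD hs h4
    ext y
    rcases eq_or_ne y 0 with rfl | hy
    · rw [map_zero]; rfl
    · obtain ⟨k, hk⟩ := hc (Units.mk0 y hy)
      have h6 : y = (c : F) ^ k := by
        have := congrArg Units.val hk
        simpa using this.symm
      rw [h6, map_zpow₀, h5]
      rfl

/-! ### the types -/

theorem not_dvd_of_dvd_six {p k : ℕ} (hp : p.Prime) (hp5 : 5 ≤ p) (hk : k ∣ 6) : ¬ p ∣ k := by
  intro h
  have h1 := Nat.le_of_dvd (by norm_num) (h.trans hk)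
  interval_cases p
  · exact absurd (h.trans hk) (by norm_num)
  · exact absurd hp (by norm_num)

/-- **`G₂, F₄, E₆, E₇, E₈` in characteristic `p ≥ 5`.** -/
theorem char_chev (D : ChevalleyDatum) (hD : D ∈ [chevG2, chevF4, chevE6, chevE7, chevE8])
    {F : Type} [Field F] [Fintype F] {p : ℕ} [Fact p.Prime] (hp : 5 ≤ p) [CharP F p] :
    Meet p ↥(D.group F) := by
  have hpp : p.Prime := Fact.out
  obtain ⟨f, -, hF⟩ := FiniteField.card F p
  have hf : 1 ≤ (f : ℕ) := f.pos
  have hRA : Nat.card (RingAut F) = f := Cfsg.Agent.Lib.FieldAutCard.card_ringAut hf hF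
  have hpf : p ≤ p ^ (f : ℕ) := Nat.le_self_pow (by omega) p
  have hmem : D ∈ [chevG2, chevB2, chevD4, chevF4, chevE6, chevE7, chevE8] := by
    simp only [List.mem_cons, List.not_mem_nil, or_false] at hD ⊢
    tauto
  obtain ⟨hs, hna⟩ := Cfsg.Agent.S2155.simple (F := F) D hmem (fun _ => by rw [hF]; omega)
  simp only [List.mem_cons, List.not_mem_nil, or_false] at hD
  rcases hD with rfl | rfl | rfl | rfl | rfl
  · refine meet_chev hmem hna (m := 1) (not_dvd_of_dvd_six hpp hp (by norm_num)) ?_ (i := 0) (s := 3)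
      (by decide +kernel) (by decide +kernel) (by decide +kernel)
    rw [Cfsg.Agent.S2121.result p f hF (by omega), if_neg (by omega), hRA, one_mul]
  · refine meet_chev hmem hna (m := 1) (not_dvd_of_dvd_six hpp hp (by norm_num)) ?_ (i := 0) (s := 7)
      (by decide +kernel) (by decide +kernel) (by decide +kernel)
    have h2 : Nat.gcd 2 p = 1 := (Nat.coprime_primes Nat.prime_two hpp).2 (by omega)
    rw [Cfsg.Agent.S2122.result p f hF, hRA, h2]
  · refine meet_chev hmem hna (m := 6) (not_dvd_of_dvd_six hpp hp (by norm_num)) ?_ (i := 0) (s := 16)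
      (by decide +kernel) (by decide +kernel) (by decide +kernel)
    rw [Cfsg.Agent.S2123.result p f hF, hRA]
    exact mul_dvd_mul_right (mul_dvd_mul_left 2 (Nat.gcd_dvd_left 3 _)) _
  · refine meet_chev hmem hna (m := 2) (not_dvd_of_dvd_six hpp hp (by norm_num)) ?_ (i := 0) (s := 1)
      (by decide +kernel) (by decide +kernel) (by decide +kernel)
    rw [Cfsg.Agent.S2124.result p f hF, hRA]
    exact mul_dvd_mul_right (Nat.gcd_dvd_left 2 _) _
  · refine meet_chev hmem hna (m := 1) (not_dvd_of_dvd_six hpp hp (by norm_num)) ?_ (i := 0) (s := 14)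
      (by decide +kernel) (by decide +kernel) (by decide +kernel)
    rw [Cfsg.Agent.S2125.result p f hF, hRA, one_mul]

end Cfsg.Agent.H185.MeetChev
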