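import Cfsg.Agent.H185.MeetChar
import Cfsg.Agent.KFacts.RgdAutFacts
import Cfsg.Agent.KFacts.RgdDiag

/-!
# Groups with a root group datum in characteristic `p`: `Meet p`
-/

set_option autoImplicit false

namespace Cfsg.Agent.H185.MeetRgd

open CoxeterSystem Cfsg.Agent.ChevalleyStructure.CoxeterGeom Cfsg.Agent.Tits.Roots Cfsg.Agent.Tits.Core
  Cfsg.Agent.Tits.Exchange Cfsg.Agent.Nodes.Reps Cfsg.Agent.Nodes.BNOf Cfsg.Agent.Nodes.StabComb
  Cfsg.Agent.Nodes.Bruhat Cfsg.Agent.Nodes.OppDec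
  Cfsg.Agent.KFacts.RgdAut Cfsg.Agent.KFacts.RgdDiag Cfsg.Agent.KFacts.RgdAutFacts
open Cfsg.Agent.H903.SylMeet

variable {I W Y : Type*} [Fintype I] [DecidableEq I] [Group W] [Group Y] {M : CoxeterMatrix I}
  {cs : CoxeterSystem M W} {A : I → I → ℤ} {h : IsCartan M A} {p : ℕ} {T : Subgroup Y} {n : I → Y}
  {X : (I → ℤ) → Subgroup Y}

/-- representatives fixed by a group of automorphisms fixing the `n i` -/
theorem exists_rp_fix (R : RGD cs h p T n X) {Γ : Type*} (st : Γ → MulAut Y) (hn : ∀ γ i, st γ (n i) = n i)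
    (w : W) : ∃ k, Rp cs R.nsys w k ∧ ∀ γ, st γ k = k := by
  obtain ⟨ω, rfl⟩ := cs.wordProd_surjective w
  induction ω with
  | nil => exact ⟨1, by rw [wordProd_nil]; exact rp_one, fun γ => map_one _⟩
  | cons i ω ih =>
    obtain ⟨k, hk, e⟩ := ih
    refine ⟨n i * k, ?_, fun γ => by rw [map_mul, hn, e]⟩
    rw [wordProd_cons]
    exact (rp_simple cs R.nsys i).mul hk

/-- **Root group data in characteristic `p`.** -/
theorem meet_rgd (R : RGD cs h p T n X) [Finite W] [Finite Y] [IsSimpleGroup Y] [Fact p.Prime]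
    (hY : ¬ IsMulCommutative Y) (hG : GG cs h T X = ⊤) {Γ : Type*} [Group Γ] [Finite Γ] (st : Γ →* MulAut Y)
    (hD : ∀ γ, Diag T X (st γ) 1) (hn : ∀ γ i, st γ (n i) = n i) {m : ℕ} (hm : ¬ p ∣ m)
    (hout : Nat.card (Cfsg.Out Y) ∣ m * Nat.card Γ) (t : Y) (ht : t ∈ T)
    (hreg : ∀ γ, (∃ k, γ ^ p ^ k = 1) → st γ t = t → γ = 1) : Meet p Y := by
  obtain ⟨S, hS⟩ := exists_sylow R hG
  have hUp : IsPGroup p ↥(RGD.Sup X (RGD.Pos cs h)) := R.isPGroup_Upos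
  have hUi : ¬ p ∣ (RGD.Sup X (RGD.Pos cs h)).index := by
    rw [← hS]
    exact S.not_dvd_index
  have hst : ∀ γ, ∀ u ∈ RGD.Sup X (RGD.Pos cs h), st γ u ∈ RGD.Sup X (RGD.Pos cs h) := by
    intro γ u hu
    have h1 : RGD.Sup X (RGD.Pos cs h) ≤ (RGD.Sup X (RGD.Pos cs h)).comap (st γ).toMonoidHom := by
      refine RGD.Sup_le fun z hz a ha => ?_
      have h2 := (Diag.root_comp R (hD γ) (fun i j => rfl) hz.1 a).2 ha
      exact RGD.le_Sup (S := RGD.Pos cs h) hz h2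
    exact h1 hu
  obtain ⟨k, hk, hkf⟩ := exists_rp_fix R (fun γ => st γ) hn (w0 cs)
  have hkU : ∀ u ∈ RGD.Sup X (RGD.Pos cs h), k * u * k⁻¹ ∈ UN cs h X := by
    intro u hu
    rw [← cj_U R hk]
    exact conj_mem_cj.2 hu
  have hone : ∀ u ∈ RGD.Sup X (RGD.Pos cs h), k * u * k⁻¹ ∈ RGD.B cs h T X → u = 1 := by
    intro u hu hB
    have h1 : k * u * k⁻¹ = 1 := eq_one_of_mem_UN_of_mem_B R (hkU u hu) hB
    have h2 : k * u * k⁻¹ = k * 1 * k⁻¹ := by rw [h1]; group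
    exact mul_left_cancel (mul_right_cancel h2)
  have hTB : T ≤ RGD.B cs h T X := RGD.T_le_B
  have hUB : RGD.Sup X (RGD.Pos cs h) ≤ RGD.B cs h T X := RGD.U_le_B
  have htf : ∀ γ, st γ t ∈ T := fun γ => ((hD γ).tor t).2 ht
  refine MeetChar.meet_of_frame hY hUp hUi st hst hm hout k t hkf ?_ ?_ ?_
  · intro u hu h1
    exact hone u hu (hUB h1)
  · intro u hu γ h1
    apply hone u hu
    have h2 : k * u * k⁻¹ = t⁻¹ * (t * (k * u * k⁻¹) * (st γ t)⁻¹) * st γ t := by group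
    rw [h2]
    exact mul_mem (mul_mem (hTB (inv_mem ht)) (hUB h1)) (hTB (htf γ))
  · intro γ hγ h1
    apply hreg γ hγ
    have h2 : t * (st γ t)⁻¹ ∈ RGD.Sup X (RGD.Pos cs h) ⊓ T :=
      Subgroup.mem_inf.2 ⟨h1, mul_mem ht (inv_mem (htf γ))⟩
    rw [U_inf_T R, Subgroup.mem_bot] at h2
    exact (mul_inv_eq_one.1 h2).symm

end Cfsg.Agent.H185.MeetRgd
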