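import Cfsg.Agent.H14.TypWitt
import Cfsg.Agent.FixBN.WittNodeD
import Cfsg.Agent.Nodes.WittInst

/-!
# The orthogonal groups have typed root group data (helper185, task AA-NODEO)

* `typed_odd` : `POmega F (quadFormOdd m F)`, `q` odd, `m ≥ 2`, type `B_m`, all nodes of order `q`;
* `typed_minus` : `POmega F (quadFormMinus m F a b)`, every characteristic, `m ≥ 2`, type `B_m`, the last node of order
  `q ^ 2`;
* `typed_plus` : `POmega F (quadFormPlus (m + 2) F)`, every characteristic, `m ≥ 1`, type `TypeD.M m`.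
-/

set_option autoImplicit false

namespace Cfsg.Agent.H185.TypedO

open QuadraticMap
open Cfsg Cfsg.Agent.LieClassical Cfsg.Agent.LieClassical.OrthCore Cfsg.Agent.LieClassical.OrthTrans
open Cfsg.Agent.LieClassical.OrthSimple Cfsg.Agent.LieClassical.OrthFinite Cfsg.Agent.LieClassical.OrthForms
open Cfsg.Agent.ChevalleyStructure.CoxeterGeom Cfsg.Agent.Tits.Roots Cfsg.Agent.Nodes.TypeC
open Cfsg.Agent.Nodes.Comb Cfsg.Agent.Nodes.Reps Cfsg.Agent.Nodes.WittRoot Cfsg.Agent.Nodes.BNOf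
open Cfsg.Agent.Nodes.WittRGD Cfsg.Agent.Nodes.RGDLib Cfsg.Agent.Nodes.WittModel Cfsg.Agent.Nodes.WittU
open Cfsg.Agent.TitsThree Cfsg.Agent.TitsThree.Siegel Cfsg.Agent.TitsThree.SiegelGen
  Cfsg.Agent.TitsThree.WittFrame Cfsg.Agent.TitsThree.WBridge Cfsg.Agent.TitsThree.WittWeyl
  Cfsg.Agent.TitsThree.FrameCN Cfsg.Agent.TitsThree.KSideO
open Cfsg.Agent.FixBN.WittNodeA Cfsg.Agent.FixBN.WittNodeB
open Cfsg.Agent.FixBN.WittNodeO (vec vec_inl vec_inr0 vec_inr1 vec_add vec_smul vec_zero unvec unvec_vec vec_unvec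
  vec_injective form_vec polar_vec exists_type cj' cj'_mul cj'_comm cj'_ne_zero vec_mem exists_vec isSolvable_T_of)
open Cfsg.Agent.H460.Typed Cfsg.Agent.H14.TypWitt
open Cfsg.Agent.Nodes.WittAll (AmbT)
open Cfsg.Agent.Nodes.WittInst (ambT_O amb_O_of_two fixp_minus)

/-! ### Odd dimension -/

section Odd

variable {F : Type} [Field F] [Finite F] {p : ℕ} [Fact p.Prime] [CharP F p]

/-- **`PΩ_{2m+1}(q)`, `q` odd.** -/
theorem typed_odd {m : ℕ} (hm : 2 ≤ m) (h2 : (2 : F) ≠ 0) :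
    HasTyped p (Cfsg.POmega F (Cfsg.quadFormOdd m F)) (CoxeterMatrix.B m) (fun _ => Nat.card F) := by
  rw [← coe_oddForm]
  have hG : Good (oddForm m F) := by
    apply good_of_finite (nondeg_oddForm m F h2)
    rw [Module.finrank_fintype_fun_eq_card, Fintype.card_sum, Fintype.card_sum, Fintype.card_fin,
      Fintype.card_unit]
    omega
  let d : Unit ⊕ (Fin m ⊕ Fin m) → F := Pi.single (Sum.inl ()) 1
  have hd : d ∈ (wodd m F).V0 := fun j => by simp [d]
  have hQ : ∀ a : F, (oddForm m F) (a • d) = a ^ 2 := by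
    intro a
    rw [coe_oddForm, quadFormOdd_apply]
    simp [d]
  have hW : (wodd m F).V0 = Submodule.span F {d} := by
    ext v
    rw [Submodule.mem_span_singleton]
    constructor
    · intro hv
      have hv' : ∀ j, v (Sum.inr j) = 0 := hv
      refine ⟨v (Sum.inl ()), ?_⟩
      funext j
      rcases j with j | j
      · simp [d]
      · simp [d, hv']
    · rintro ⟨c, rfl⟩
      exact Submodule.smul_mem _ _ hd
  let f : F → (toFrame (wodd m F)).Adm := fun a =>
    ⟨a • d, -a ^ 2, Submodule.smul_mem _ _ hd, by rw [← hQ]; rfl⟩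
  have hp0 : (f 1).c ≠ 0 := by show -(1 : F) ^ 2 ≠ 0; simp
  refine hasTyped_model (model (wodd m F) hG ⟨f 1, hp0⟩) (AmbT.of_amb (amb_O_of_two _ h2) p) hp0 (by omega) ?_
    (fun _ _ => rfl) ?_
  · exact Cfsg.Agent.FixBN.WittNodeC.isSolvable_T _ fun g k hg hk =>
      Cfsg.Agent.FixBN.WittNodeC.comm_Tor _ (amb_O_of_two _ h2) d hW hg hk
  · intro R i hi
    have hpol : ∀ a b : F, polar (oddForm m F) (a • d) (b • d) = 2 * a * b := by
      intro a b
      rw [polar_oddForm]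
      simp [d]
    refine typedAt_Z hp0 R hi f ?_ ?_ ?_ ?_ ?_
    · intro a b
      apply Frame.Adm.ext
      · show (a + b) • d = a • d + b • d
        rw [add_smul]
      · show -(a + b) ^ 2 = -a ^ 2 + -b ^ 2 - (1 : F)⁻¹ * polar (oddForm m F) (b • d) (a • d)
        rw [hpol]; ring
    · rintro ⟨w, c, hw, hok⟩
      obtain ⟨a, rfl⟩ : ∃ a : F, a • d = w := by
        rw [hW] at hw
        exact Submodule.mem_span_singleton.1 hw
      have h3 : c = -(oddForm m F) (a • d) := hok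
      rw [hQ] at h3
      subst h3
      exact ⟨a, rfl⟩
    · intro a ha
      change -a ^ 2 = 0 at ha
      simpa using ha
    · intro a ha
      show ((1 : F)⁻¹ * -(1 : F) ^ 2 * (-a ^ 2)⁻¹) • (a • d + ((1 : F)⁻¹ * (-(1 : F) ^ 2)⁻¹ *
        polar (oddForm m F) (a • d) ((1 : F) • d)) • ((1 : F) • d)) = (-a⁻¹) • d
      rw [hpol, smul_smul, ← add_smul, smul_smul]
      congr 1
      field_simp
      ring
    · intro a ha
      show (1 : F)⁻¹ * (-(1 : F) ^ 2 * -(1 : F) ^ 2) * (-a ^ 2)⁻¹ = -(-a⁻¹) ^ 2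
      field_simp

omit [Finite F] in
theorem two_ne_zero_of_card [Finite F] (hq : Odd (Nat.card F)) : (2 : F) ≠ 0 := by
  intro h
  have h1 : CharP F 2 := CharTwo.of_one_ne_zero_of_two_eq_zero one_ne_zero h
  have h2 : Fintype F := Fintype.ofFinite F
  obtain ⟨n, -, hn⟩ := FiniteField.card F 2
  rw [Nat.card_eq_fintype_card, hn] at hq
  exact (Nat.not_odd_iff_even.2 (Nat.even_pow.2 ⟨even_two, n.ne_zero⟩)) hq

/-- **`PΩ_{2m+1}(q)`**, with the hypothesis of `Cfsg.IsPOmegaOddChar`. -/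
theorem typed_odd_card {m : ℕ} (hm : 2 ≤ m) (hq : Odd (Nat.card F)) :
    HasTyped p (Cfsg.POmega F (Cfsg.quadFormOdd m F)) (CoxeterMatrix.B m) (fun _ => Nat.card F) :=
  typed_odd hm (two_ne_zero_of_card hq)

end Odd

/-! ### Minus type -/

section Minus

open scoped QuadraticAlgebra

variable {F : Type} [Field F] {m : ℕ} {a b : F} [Hab : Fact (∀ r : F, r ^ 2 ≠ -b + a * r)]
  (hab : ∀ z₁ z₂ : F, z₁ ^ 2 + a * z₁ * z₂ + b * z₂ ^ 2 = 0 → z₁ = 0 ∧ z₂ = 0) {p : ℕ}
  (hA : AmbT (toFrame (wminus m F a b hab)) p (E (minusForm m F a b)))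

include hA in
/-- The action of the torus on the anisotropic plane. -/
theorem tor_type {g : ((Fin m ⊕ Fin m) ⊕ Fin 2 → F) ≃ₗ[F] ((Fin m ⊕ Fin m) ⊕ Fin 2 → F)}
    (hg : g ∈ Tor (toFrame (wminus m F a b hab)) (E (minusForm m F a b))) :
    ∃ u : QuadraticAlgebra F (-b) a, u ≠ 0 ∧ ∃ s : Bool, ∀ z, g (vec m a b z) = vec m a b (u * cj' s z) := by
  have hV : ∀ z, vec m a b (unvec (g (vec m a b z))) = g (vec m a b z) := fun z =>
    vec_unvec (hA.map_V0 hg.1 hg.2 (ρ := id) (fun _ => rfl) (vec_mem hab z))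
  obtain ⟨u, hu, h⟩ := exists_type (fun z => unvec (g (vec m a b z)))
    (fun z w => vec_injective (m := m) (by
      show vec m a b (unvec (g (vec m a b (z + w)))) = vec m a b (unvec (g (vec m a b z)) + unvec (g (vec m a b w)))
      rw [hV, vec_add (m := m) z w, map_add, vec_add (m := m) (unvec _) (unvec _), hV, hV]))
    (fun c z => vec_injective (m := m) (by
      show vec m a b (unvec (g (vec m a b (c • z)))) = vec m a b (c • unvec (g (vec m a b z)))
      rw [hV, vec_smul (m := m) c z, map_smul, vec_smul (m := m) c (unvec _), hV]))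
    (fun z => by rw [← form_vec (m := m), hV, mem_O.1 (E_le_O hg.1), form_vec])
  refine ⟨u, hu, ?_⟩
  rcases h with h | h
  · exact ⟨false, fun z => by rw [← hV, h]; rfl⟩
  · exact ⟨true, fun z => by rw [← hV, h]; rfl⟩

open scoped commutatorElement in
include hA in
/-- Commutators of the torus fix the frame and act on the anisotropic plane by multiplications. -/
theorem tor_comm {g k : ((Fin m ⊕ Fin m) ⊕ Fin 2 → F) ≃ₗ[F] ((Fin m ⊕ Fin m) ⊕ Fin 2 → F)}
    (hg : g ∈ Tor (toFrame (wminus m F a b hab)) (E (minusForm m F a b)))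
    (hk : k ∈ Tor (toFrame (wminus m F a b hab)) (E (minusForm m F a b))) :
    (∀ x, ⁅g, k⁆ ((toFrame (wminus m F a b hab)).b x) = (toFrame (wminus m F a b hab)).b x) ∧
      ∃ v : QuadraticAlgebra F (-b) a, ∀ z, ⁅g, k⁆ (vec m a b z) = vec m a b (v * z) := by
  have key : ∀ y, ⁅g, k⁆ (k (g y)) = g (k y) := by
    intro y
    have h1 : ⁅g, k⁆ * (k * g) = g * k := by rw [commutatorElement_def]; group
    have h2 := congrArg (fun f : ((Fin m ⊕ Fin m) ⊕ Fin 2 → F) ≃ₗ[F] ((Fin m ⊕ Fin m) ⊕ Fin 2 → F) => f y) h1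
    exact h2
  constructor
  · intro x
    obtain ⟨l, hl, e1⟩ := hg.2 x
    obtain ⟨n, hn, e2⟩ := hk.2 x
    change g _ = l • (toFrame (wminus m F a b hab)).b x at e1
    change k _ = n • (toFrame (wminus m F a b hab)).b x at e2
    have h3 := key ((toFrame (wminus m F a b hab)).b x)
    have h5 : k (g ((toFrame (wminus m F a b hab)).b x)) = (l * n) • (toFrame (wminus m F a b hab)).b x := by
      rw [e1, map_smul, e2, smul_smul]
    have h6 : g (k ((toFrame (wminus m F a b hab)).b x)) = (l * n) • (toFrame (wminus m F a b hab)).b x := by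
      rw [e2, map_smul, e1, smul_smul, mul_comm]
    rw [h5, h6, map_smul] at h3
    have h4 := congrArg ((l * n)⁻¹ • ·) h3
    simp only [smul_smul, inv_mul_cancel₀ (mul_ne_zero hl hn), one_smul] at h4
    exact h4
  · obtain ⟨u, hu, s, hs⟩ := tor_type hab hA hg
    obtain ⟨w, hw, t, ht⟩ := tor_type hab hA hk
    refine ⟨(u * cj' s w) * (w * cj' t u)⁻¹, fun z => ?_⟩
    have hkg : (k * g)⁻¹ ∈ Tor (toFrame (wminus m F a b hab)) (E (minusForm m F a b)) := inv_mem (mul_mem hk hg)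
    obtain ⟨z', hz'⟩ := exists_vec hab (hA.map_V0 hkg.1 hkg.2 (ρ := id) (fun _ => rfl) (vec_mem hab z))
    have h3 : k (g (vec m a b z')) = vec m a b z := by
      rw [← hz']
      show (k * g) ((k * g)⁻¹ (vec m a b z)) = _
      rw [← mul_apply', mul_inv_cancel]; rfl
    have h4 := key (vec m a b z')
    rw [h3] at h4
    rw [h4, ht, hs]
    rw [hs, ht] at h3
    have h5 := vec_injective h3
    rw [cj'_mul] at h5
    rw [cj'_mul, cj'_comm s t, ← h5]
    congr 1
    have h6 : w * cj' t u ≠ 0 := mul_ne_zero hw (cj'_ne_zero t hu)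
    have h7 : w * (cj' t u * cj' t (cj' s z')) = (w * cj' t u) * cj' t (cj' s z') := by ring
    rw [h7, ← mul_assoc ((u * cj' s w) * (w * cj' t u)⁻¹), mul_assoc (u * cj' s w), inv_mul_cancel₀ h6, mul_one]
    ring

open scoped commutatorElement in
include hA in
/-- The torus is solvable. -/
theorem isSolvable_minus {K : Type*} [Group K] (M : Model (toFrame (wminus m F a b hab)) K)
    (hM : M.I = E (minusForm m F a b)) : Group.IsSolvable (T M) := by
  refine isSolvable_T_of M fun g k g' k' hg hk hg' hk' => ?_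
  rw [hM] at hg hk hg' hk'
  obtain ⟨h1, v, hv⟩ := tor_comm hab hA hg hk
  obtain ⟨h1', v', hv'⟩ := tor_comm hab hA hg' hk'
  ext1 y
  show ⁅g, k⁆ (⁅g', k'⁆ y) = ⁅g', k'⁆ (⁅g, k⁆ y)
  obtain ⟨c, d, w, hw, rfl⟩ := (wminus m F a b hab).span y
  obtain ⟨z, rfl⟩ := exists_vec hab hw
  have he : ∀ i, ⁅g, k⁆ ((wminus m F a b hab).e i) = (wminus m F a b hab).e i := fun i => h1 (i, true)
  have hf : ∀ i, ⁅g, k⁆ ((wminus m F a b hab).f i) = (wminus m F a b hab).f i := fun i => h1 (i, false)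
  have he' : ∀ i, ⁅g', k'⁆ ((wminus m F a b hab).e i) = (wminus m F a b hab).e i := fun i => h1' (i, true)
  have hf' : ∀ i, ⁅g', k'⁆ ((wminus m F a b hab).f i) = (wminus m F a b hab).f i := fun i => h1' (i, false)
  simp only [map_add, map_sum, map_smul, he, hf, he', hf', hv, hv']
  congr 2
  ring

end Minus

section MinusMain

variable {F : Type} [Field F] [Finite F] {p : ℕ} [Fact p.Prime] [CharP F p]

/-- The ambient structure of `Ω⁻`, every characteristic. -/
theorem ambT_minus {m : ℕ} (hm : 2 ≤ m) (a b : F)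
    (hab : ∀ z₁ z₂ : F, z₁ ^ 2 + a * z₁ * z₂ + b * z₂ ^ 2 = 0 → z₁ = 0 ∧ z₂ = 0) (hG : Good (minusForm m F a b)) :
    AmbT (toFrame (wminus m F a b hab)) p (E (minusForm m F a b)) := by
  by_cases h2 : (2 : F) = 0
  · have hp2 : p = 2 := by
      have h3 : CharP F 2 := CharTwo.of_one_ne_zero_of_two_eq_zero one_ne_zero h2
      exact CharP.eq F ‹CharP F p› h3
    subst hp2
    exact ambT_O _ fun g hg hg2 hb => fixp_minus a b hab h2 hm hG hg hg2 hb
  · exact AmbT.of_amb (amb_O_of_two _ h2) p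

open scoped QuadraticAlgebra in
/-- **`PΩ⁻_{2m+2}(q)`, every characteristic.** -/
theorem typed_minus' {m : ℕ} (hm : 2 ≤ m) (a b : F)
    (hab : ∀ z₁ z₂ : F, z₁ ^ 2 + a * z₁ * z₂ + b * z₂ ^ 2 = 0 → z₁ = 0 ∧ z₂ = 0) :
    HasTyped p (Cfsg.POmega F (Cfsg.quadFormMinus m F a b)) (CoxeterMatrix.B m)
      (fun i => if (i : ℕ) + 1 < m then Nat.card F else Nat.card F ^ 2) := by
  have Hab : Fact (∀ r : F, r ^ 2 ≠ -b + a * r) := ⟨fun r hr => by
    have h3 := (hab (-r) 1 (by linear_combination hr)).2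
    exact one_ne_zero h3⟩
  rw [← coe_minusForm]
  have hG : Good (minusForm m F a b) := by
    apply good_of_finite (nondeg_minusForm m F a b hab)
    rw [Module.finrank_fintype_fun_eq_card, Fintype.card_sum, Fintype.card_sum, Fintype.card_fin,
      Fintype.card_fin]
    omega
  have hA : AmbT (toFrame (wminus m F a b hab)) p (E (minusForm m F a b)) := ambT_minus hm a b hab hG
  let f : QuadraticAlgebra F (-b) a → (toFrame (wminus m F a b hab)).Adm := fun z =>
    ⟨vec m a b z, -z.norm, vec_mem hab z, by rw [← form_vec (m := m)]; rfl⟩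
  have hp0 : (f 1).c ≠ 0 := by
    show -(1 : QuadraticAlgebra F (-b) a).norm ≠ 0
    rw [map_one]; simp
  have hfinE : Finite (QuadraticAlgebra F (-b) a) := Finite.of_equiv _ (QuadraticAlgebra.equivProd (-b) a).symm
  have hcard : Nat.card (QuadraticAlgebra F (-b) a) = Nat.card F ^ 2 := by
    rw [Nat.card_congr (QuadraticAlgebra.equivProd (-b) a), Nat.card_prod, _root_.sq]
  have hI : Group.IsSolvable (T (model (wminus m F a b hab) hG ⟨f 1, hp0⟩)) := isSolvable_minus hab hA _ rfl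
  refine hasTyped_model (model (wminus m F a b hab) hG ⟨f 1, hp0⟩) hA hp0 (by omega) hI
    (fun i hi => if_pos hi) ?_
  intro R i hi
  rw [if_neg hi, ← hcard]
  refine typedAt_Z hp0 R hi f ?_ ?_ ?_ ?_ ?_
  · intro z w
    apply Frame.Adm.ext
    · exact vec_add z w
    · show -(z + w).norm = -z.norm + -w.norm - (1 : F)⁻¹ * polar (minusForm m F a b) (vec m a b w) (vec m a b z)
      rw [polar_vec]
      simp only [QuadraticAlgebra.norm_def, QuadraticAlgebra.re_add, QuadraticAlgebra.im_add]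
      ring
  · rintro ⟨w, c, hw, hok⟩
    obtain ⟨z, rfl⟩ := exists_vec hab hw
    have h3 : c = -(minusForm m F a b) (vec m a b z) := hok
    rw [form_vec] at h3
    subst h3
    exact ⟨z, rfl⟩
  · intro z hz
    change -z.norm = 0 at hz
    exact QuadraticAlgebra.norm_eq_zero_iff_eq_zero.1 (neg_eq_zero.1 hz)
  · intro z hz
    have hn : z.norm ≠ 0 := fun h => hz (QuadraticAlgebra.norm_eq_zero_iff_eq_zero.1 h)
    show ((1 : F)⁻¹ * -(1 : QuadraticAlgebra F (-b) a).norm * (-z.norm)⁻¹) • (vec m a b z +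
      ((1 : F)⁻¹ * (-(1 : QuadraticAlgebra F (-b) a).norm)⁻¹ *
        polar (minusForm m F a b) (vec m a b z) (vec m a b 1)) • vec m a b 1) = vec m a b (-z⁻¹)
    rw [polar_vec, ← vec_smul, ← vec_add, ← vec_smul]
    congr 1
    rw [QuadraticAlgebra.inv_def, map_one]
    ext
    · simp only [QuadraticAlgebra.re_smul, QuadraticAlgebra.re_add, QuadraticAlgebra.re_neg, QuadraticAlgebra.re_star,
        QuadraticAlgebra.re_one, QuadraticAlgebra.im_one, smul_eq_mul]
      field_simp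
      ring
    · simp only [QuadraticAlgebra.im_smul, QuadraticAlgebra.im_add, QuadraticAlgebra.im_neg, QuadraticAlgebra.im_star,
        QuadraticAlgebra.re_one, QuadraticAlgebra.im_one, smul_eq_mul]
      field_simp
      ring
  · intro z hz
    have hn : z.norm ≠ 0 := fun h => hz (QuadraticAlgebra.norm_eq_zero_iff_eq_zero.1 h)
    show (1 : F)⁻¹ * (-(1 : QuadraticAlgebra F (-b) a).norm * -(1 : QuadraticAlgebra F (-b) a).norm) * (-z.norm)⁻¹ =
      -(-z⁻¹).norm
    have h3 : (-z⁻¹).norm = z.norm⁻¹ := by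
      rw [QuadraticAlgebra.norm_neg, eq_comm, inv_eq_of_mul_eq_one_right]
      rw [← map_mul, mul_inv_cancel₀ hz, map_one]
    rw [h3, map_one]
    field_simp

/-- **`PΩ⁻_{2m}(q)`, every characteristic**, the form as in `Cfsg.IsPOmegaMinusChar`. -/
theorem typed_minus {m : ℕ} (hm : 3 ≤ m) (a b : F)
    (hab : ∀ z₁ z₂ : F, z₁ ^ 2 + a * z₁ * z₂ + b * z₂ ^ 2 = 0 → z₁ = 0 ∧ z₂ = 0) :
    HasTyped p (Cfsg.POmega F (Cfsg.quadFormMinus (m - 1) F a b)) (CoxeterMatrix.B (m - 1))
      (fun i => if (i : ℕ) + 1 < m - 1 then Nat.card F else Nat.card F ^ 2) :=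
  typed_minus' (by omega) a b hab

end MinusMain

/-! ### Plus type -/

section Plus

open Cfsg.Agent.Nodes
open Cfsg.Agent.Nodes.WittRGD (Tor mem_Tor b_ne_zero)
open Cfsg.Agent.Nodes.WittInst (wplus adm_plus amb_plus XD rgD_le G1D_eq_top ker_toPOmega rgdD_model)
open Cfsg.Agent.FixBN.WittNodeD (eq_one_of_comm mem_B_of_eq')

variable {ι : Type} [Fintype ι] [DecidableEq ι] {F : Type} [Field F] {Q : QuadraticForm F (ι → F)}

theorem hasTyped_D [Finite F] (hG : Good Q) {p : ℕ} [Fact p.Prime] [CharP F p] {m : ℕ}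
    (W : WFrame (PO Q) (m + 2)) (hA : Amb (toFrame W) (E Q)) (h0 : ∀ p : (toFrame W).Adm, p = 1) (hV : W.V0 = ⊥) :
    HasTyped p (Cfsg.POmega F ⇑Q) (TypeD.M m) (fun _ => Nat.card F) := by
  have hW : Finite (TypeD.M m).Group := TypeD.finite_W (TypeD.M m).toCoxeterSystem
  have hfin : Finite ((ι → F) ≃ₗ[F] (ι → F)) :=
    Finite.of_injective (fun g : (ι → F) ≃ₗ[F] (ι → F) => (g : (ι → F) → (ι → F))) DFunLike.coe_injective
  have R1 := rgd_restrict (WittAll.rgdD (p := p) hA h0 (TypeD.M m).toCoxeterSystem) (E Q) (fun x _ => rgD_le W hA x)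
    (fun i => WittRGDD.nn_mem hA i)
  have R2 := rgdD_model W hG hA h0 (p := p) (TypeD.M m).toCoxeterSystem
  have hgen := rgd_gen_of_G1 R2 (G1D_eq_top W (toPOmega hG) (toPOmega_surjective hG) h0 (TypeD.M m).toCoxeterSystem)
  refine hasTyped R2 hgen ?_ fun i => ?_
  · refine Group.isSolvable_of_comm ?_
    rintro ⟨_, g, hg, rfl⟩ ⟨_, k, hk, rfl⟩
    apply Subtype.ext
    show toPOmega hG g * toPOmega hG k = toPOmega hG k * toPOmega hG g
    rw [← map_mul, ← map_mul]
    exact congrArg _ (Subtype.ext (Cfsg.Agent.FixBN.WittNodeC.comm_Tor W hA 0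
      (by rw [hV, Submodule.span_zero_singleton])
      (Subgroup.mem_subgroupOf.1 hg) (Subgroup.mem_subgroupOf.1 hk)))
  · have hne : ((i, true) : Fin (m + 2) × Bool).1 ≠ (TypeD.nx i).1 := TypeD.ok_nx i
    have hmem : ∀ {u}, u ∈ XD W (toPOmega hG) (sr i) ↔
        ∃ a : F, u = toPOmega hG ⟨(toFrame W).X (i, true) (TypeD.nx i) a, hA.X_mem _ _ _⟩ := by
      intro u
      constructor
      · rintro ⟨g, hg, rfl⟩
        have h1 : (g : (ι → F) ≃ₗ[F] (ι → F)) ∈ WittRGDD.rg (toFrame W) (sr i) := hg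
        rw [WittRGDD.rg_sr] at h1
        obtain ⟨a, ha⟩ := h1
        exact ⟨a, congrArg _ (Subtype.ext ha)⟩
      · rintro ⟨a, rfl⟩
        refine ⟨_, ?_, rfl⟩
        show (toFrame W).X (i, true) (TypeD.nx i) a ∈ WittRGDD.rg (toFrame W) (sr i)
        rw [WittRGDD.rg_sr]
        exact ⟨a, rfl⟩
    refine Or.inl ⟨F, inferInstance, inferInstance,
      fun a => toPOmega hG ⟨(toFrame W).X (i, true) (TypeD.nx i) a, hA.X_mem _ _ _⟩, rfl, fun a b => ?_,
      fun a => hmem.2 ⟨a, rfl⟩, fun u hu => hmem.1 hu, fun a ha => ?_, fun a ha => ?_⟩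
    · rw [← map_mul]
      exact congrArg _ (Subtype.ext ((toFrame W).X_add _ _ _ _))
    · have h3 := center_of_toPOmega hG ha
      have h4 := eq_one_of_comm R1 i (x := ⟨(toFrame W).X (i, true) (TypeD.nx i) a, hA.X_mem _ _ _⟩) (by
        show (toFrame W).X (i, true) (TypeD.nx i) a ∈ WittRGDD.rg (toFrame W) (sr i)
        rw [WittRGDD.rg_sr]
        exact ⟨a, rfl⟩) (Subgroup.mem_center_iff.1 h3 _)
      have h5 : (toFrame W).X (i, true) (TypeD.nx i) a = 1 := congrArg Subtype.val h4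
      have h6 := X_apply_neg (toFrame W) hne a
      rw [h5] at h6
      have h7 : a • (toFrame W).b (i, true) = 0 := by
        have h8 : (toFrame W).b (neg (TypeD.nx i)) = (toFrame W).b (neg (TypeD.nx i)) + a • (toFrame W).b (i, true) := h6
        exact (add_eq_left.1 h8.symm)
      exact (smul_eq_zero.1 h7).resolve_right (b_ne_zero _)
    · refine mem_B_of_eq' R2 i (m := toPOmega hG ⟨nX (toFrame W) (i, true) (TypeD.nx i) a⁻¹,
        WittRGDD.nX_mem hA _ _ _⟩) (z := toPOmega hG ⟨(toFrame W).X (i, true) (TypeD.nx i) (-a⁻¹), hA.X_mem _ _ _⟩)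
        ?_ ?_ (hmem.2 ⟨_, rfl⟩)
      · rw [← map_inv, ← map_mul, ← map_mul, ← map_mul, ← map_mul]
        exact congrArg _ (Subtype.ext (conj_X_eq (toFrame W) hne ha))
      · rw [← map_inv, ← map_mul]
        refine ⟨_, ?_, rfl⟩
        show (WittRGDD.nn (toFrame W) i)⁻¹ * nX (toFrame W) (i, true) (TypeD.nx i) a⁻¹ ∈ Tor (toFrame W) (E Q)
        exact ⟨mul_mem (inv_mem (WittRGDD.nn_mem hA i)) (WittRGDD.nX_mem hA _ _ _),
          (((WittRGDD.mono_nn i).inv (TypeD.sg_sg i)).mul (WittRGDD.mono_nX' i (inv_ne_zero ha))).congr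
            fun x => TypeD.sg_sg i x⟩

/-- **`PΩ⁺_{2m}(q)`, every characteristic**, type `D_m`, `m = k + 2`. -/
theorem typed_plus' {F : Type} [Field F] [Finite F] {p : ℕ} [Fact p.Prime] [CharP F p] {m : ℕ} (hm : 1 ≤ m) :
    HasTyped p (Cfsg.POmega F (Cfsg.quadFormPlus (m + 2) F)) (TypeD.M m) (fun _ => Nat.card F) := by
  rw [← coe_plusForm]
  have hG : Good (plusForm (m + 2) F) := by
    apply good_of_finite (nondeg_plusForm (m + 2) F)
    rw [Module.finrank_fintype_fun_eq_card, Fintype.card_sum, Fintype.card_fin]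
    omega
  exact hasTyped_D hG (wplus (m + 2) F) (amb_plus (m + 2)) (adm_plus (m + 2)) rfl

/-- **`PΩ⁺_{2m}(q)`, every characteristic**, `m ≥ 3`. -/
theorem typed_plus {F : Type} [Field F] [Finite F] {p : ℕ} [Fact p.Prime] [CharP F p] {m : ℕ} (hm : 3 ≤ m) :
    HasTyped p (Cfsg.POmega F (Cfsg.quadFormPlus m F)) (TypeD.M (m - 2)) (fun _ => Nat.card F) := by
  obtain ⟨k, rfl⟩ : ∃ k, m = k + 2 := ⟨m - 2, by omega⟩
  exact typed_plus' (by omega)

end Plus

end Cfsg.Agent.H185.TypedO
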